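import Cfsg.Agent.FS.N.G.Zc
import Cfsg.Agent.FS.Asm.Fin

/-!
# S5288: the list of the groups of order at most `2 ^ 8` under `Hy0` (helper97, project FS)

The proofs are those of `FS/Sw/Snd`, `FS/Sw/List`, `FS/Asm/Fin`.
-/

set_option autoImplicit false

namespace Cfsg.Agent.FS.N.G

open Cfsg Cfsg.FusionSystem Cfsg.Agent.FS.Th

section filter

open Cfsg.Agent.FS.Pc Cfsg.Agent.FS.Sw Finset

variable {G : Type} [Group G]

theorem s2_false {p : Pre} {z : G} {s : ℕ → G} {c NC Q I : ℕ} {sq : ℕ → ℕ} (h : Ok p z s c NC Q I sq)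
    (hcov : p.cover = true) {F : FusionSystem (⊤ : Subgroup G)} (hF : Hy0 F)
    (hG : IsPGroup 2 G) {w : ℕ} (h0 : 0 < w) (hw : (p.cen NC I).testBit (w >>> 1) = true)
    (hc : Pre.colM (fun a => band (Nat.blt 0 a) (p.same true NC Q p.F a w)) false
      (fun L => ite' (Pre.short L) (Pre.allL (p.cls true c NC Q I w) p.C)
        (Pre.allL (fun a => Pre.allL (p.cls true c NC Q I a) p.C) L)) p.N1 (p.cen NC I) [] = true) : False := by
  have := h.finite
  have hW := h.rep_cen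
  rw [Nat.shiftRight_eq_div_pow, Nat.pow_one] at hw
  have hw' : w < 2 * 2 ^ p.n := by
    have := lt_of_testBit_true hW.1 hw
    omega
  obtain ⟨w2, wc⟩ := (h.rep_e2 hW hw').1 hw
  have w1 : e2 z s w ≠ 1 := fun h1 => h0.ne' (h.e2_inj hw' (by omega) (h1.trans h.e2_zero.symm))
  obtain ⟨L, a1, -, a2⟩ := colM_spec _ _ _ hc
  have hT : Rep p.n z s p.F ((⊤ : Subgroup G) : Set G) := by
    rw [h.hF]
    exact rep_univ _ _ _
  let X : Set G := {y | ∃ θ : MulAut G, θ (e2 z s w) = y}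
  have hX2 : ∀ y ∈ X, y * y = 1 := by
    rintro _ ⟨θ, rfl⟩
    rw [← map_mul, w2, map_one]
  have hXc : ∀ y ∈ X, ∀ g, g * y = y * g := by
    rintro _ ⟨θ, rfl⟩ g
    rw [← θ.apply_symm_apply g, ← map_mul, wc, map_mul]
  have hXi : ∀ θ : MulAut G, ∀ y ∈ X, θ y ∈ X := by
    rintro θ _ ⟨η, rfl⟩
    exact ⟨θ * η, rfl⟩
  have hXL : ∀ y ∈ X, ∃ a ∈ L, a < 2 * 2 ^ p.n ∧ y = e2 z s a := fun y hy => by
    obtain ⟨a, ha, h1⟩ := h.span2 y
    refine ⟨a, a2 a ((h.rep_e2 hW ha).2 (h1 ▸ ⟨hX2 y hy, hXc y hy⟩)) ?_, ha, h1⟩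
    obtain ⟨θ, h2⟩ := hy
    rw [band_eq, Bool.and_eq_true, blt_iff]
    refine ⟨Nat.pos_of_ne_zero fun h3 => w1 (θ.injective ?_), h.same_true hT true ha hw'
      (MulAut.congr Subgroup.topEquiv.symm θ⁻¹) (Subgroup.mem_top _) ?_⟩
    · rw [h2, h1, h3, h.e2_zero, map_one]
    · rw [fn_apply _ (Subgroup.mem_top _), ← h1, ← h2]
      exact θ.symm_apply_apply _
  have hwX : e2 z s w ∈ X := ⟨1, rfl⟩
  cases h3 : Pre.short L
  · rw [h3, ite'_false, allL_spec] at a1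
    obtain ⟨y, hy, P, -, h4⟩ := hF.exists_locZ_char hG hXc ⟨_, hwX, w1⟩ hXi
    obtain ⟨a, b1, b2, rfl⟩ := hXL y hy
    exact h.all_false hcov b2 (hX2 _ hy) (hXc _ hy) h4 true (a1 a b1)
  · rw [h3, ite'_true] at a1
    obtain ⟨a, b, h4⟩ := short_spec h3
    obtain ⟨y, hy, P, -, h5⟩ := hF.exists_locZ hG (X := {e2 z s w}) (fun y hy => hy ▸ wc) ⟨_, rfl, w1⟩
      fun f hf y hy => by
        rw [show y = e2 z s w from hy]
        refine fixes_of_two' hG hF.sat hXc hXi (fun x hx y hy u hu => ?_) hf hwX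
        obtain ⟨x, x1, -, rfl⟩ := hXL x hx
        obtain ⟨y, y1, -, rfl⟩ := hXL y hy
        obtain ⟨u, u1, -, rfl⟩ := hXL u hu
        rcases h4 x x1 with rfl | rfl <;> rcases h4 y y1 with q | q <;> rcases h4 u u1 with r | r <;> simp [q, r]
    rw [show y = e2 z s w from hy] at h5
    exact h.all_false hcov hw' w2 wc h5 true a1

/-- **Soundness of the filter.** -/
theorem chk_sound {n : ℕ} {B : Base} {cd lo k ce : ℕ} {outs : List ℕ} (hc : chk n B cd lo k ce outs = true) {i : ℕ}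
    (h1 : lo ≤ i) (h2 : i < lo + k) {z : G} {x : ℕ → G} (hx : Ext z x (Pc.get B.r B.reps i) B.r n B.w B.rel)
    {F : FusionSystem (⊤ : Subgroup G)} (hF : Hy0 F) {P : Subgroup G} (hz : LocZ z P ⊥) : i ∈ outs := by
  unfold chk at hc
  rw [band_eq, band_eq, band_eq, Bool.and_eq_true, Bool.and_eq_true, Bool.and_eq_true, ble_iff, ble_iff, ble_iff, pre_eq,
    band_eq, Bool.and_eq_true, frc_eq] at hc
  obtain ⟨a1, a2, a3, a4, a5⟩ := hc
  have hok := ok_preV hx a3 a2 a1 (dec 128 cd [])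
  rcases run_spec _ _ a5 i h1 h2 with h3 | h3 | ⟨w, h3⟩
  · exact h3
  · unfold Pre.s1 at h3
    rw [conc_eq] at h3
    exact (hok.s1_false a4 hz h3).elim
  · unfold Pre.s2 at h3
    rw [conc_eq, frc_eq, band_eq, band_eq, Bool.and_eq_true, Bool.and_eq_true, blt_iff, tb_eq] at h3
    exact (s2_false hok a4 hF hx.isPGroup h3.1 h3.2.1 h3.2.2).elim

end filter

open Pc (Base Ext IsPc get tri)

section list

variable {G : Type} [Group G] {F : Sys G}

theorem of_has {n : ℕ} {LL SS : List (List Base)} (hd : ∀ l ∈ LL, Sw.Dn n SS l) (hF : Hy0 F) {z : G}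
    {P : Subgroup G} (hz : LocZ z P ⊥) (h : ∃ l ∈ LL, ∃ T ∈ l, T.Has n z) :
    ∃ l ∈ SS, ∃ T ∈ l, ∃ y : ℕ → G, Gen.P0 (n + 1) T y := by
  obtain ⟨l, hl, T, hT, i, hi, x, hx⟩ := h
  obtain ⟨cd, lo, k, ce, ics, h1, h2, h3⟩ := hd l hl T hT i hi
  obtain ⟨h4, h5⟩ := Sw.seg_spec.{0} h3
  exact h5 i (chk_sound h4 h1 h2 hx hF hz) G z x hx

/-- **The list.** -/
theorem list [Finite G] (hSq : BoxSq) (hF : Hy0 F) {n : ℕ} (h2 : 2 ≤ n) (h7 : n ≤ 7) (hG : Nat.card G = 2 ^ (n + 1)) :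
    ∃ l ∈ Sw.S (n + 1), ∃ T ∈ l, ∃ y : ℕ → G, Gen.P0 (n + 1) T y := by
  have hp : IsPGroup 2 G := IsPGroup.of_card hG
  have : Nontrivial G := Finite.one_lt_card_iff_nontrivial.1 (hG ▸ Nat.one_lt_two_pow (Nat.succ_ne_zero n))
  obtain ⟨z, z2, z1, zc, P, -, hz⟩ := hF.exists_locZ_inv hp
  interval_cases n
  · exact of_has Sw.dn2 hF hz (Gen.has2 hG z2 z1 zc)
  · exact of_has Sw.dn3 hF hz (Gen.has3 hG z2 z1 zc)
  · exact of_has Sw.dn4 hF hz (Gen.has4 hG z2 z1 zc)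
  · exact of_has Sw.dn5 hF hz (Gen.has5 hG z2 z1 zc)
  · exact of_has Sw.dn6 hF hz (Gen.has6 hG z2 z1 zc)
  · refine of_has Sw.dn7 hF hz ((Gen.has7 hG z2 z1 zc).resolve_left fun h => ?_)
    have h8 := hSq G hp F hF z z2 zc h
    rw [hG] at h8
    exact absurd h8 (by norm_num)

end list

/-! ### entries of 16 bits -/

/-- The first `k` entries of width `m`, repacked with width 16. -/
noncomputable def rep16 (m R k : ℕ) : ℕ := Nat.rec 0 (fun i r => r + (get m R i) <<< (16 * i)) k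

/-- The presentation repacked with width 16. -/
noncomputable def w16 (m R : ℕ) : ℕ := rep16 m R (tri m 0)

theorem rep16_succ (m R k : ℕ) : rep16 m R (k + 1) = rep16 m R k + (get m R k) <<< (16 * k) := rfl

theorem rep16_lt {m : ℕ} (hm : m ≤ 16) (R k : ℕ) : rep16 m R k < 2 ^ (16 * k) := by
  induction k with
  | zero => exact Nat.one_pos
  | succ k ih =>
    rw [rep16_succ, Nat.mul_succ]
    exact Pc.cat_lt ih ((Pc.get_lt m R k).trans_le (Nat.pow_le_pow_right (by norm_num) hm))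

theorem get_rep16 {m : ℕ} (hm : m ≤ 16) (R : ℕ) {i : ℕ} : ∀ k, i < k → get 16 (rep16 m R k) i = get m R i := by
  intro k
  induction k with
  | zero => exact fun h => absurd h (Nat.not_lt_zero i)
  | succ k ih =>
    intro hk
    rw [rep16_succ]
    rcases Nat.lt_succ_iff_lt_or_eq.1 hk with h | rfl
    · rw [Pc.get_cat_lo _ (rep16_lt hm R k) h, ih h]
    · have h1 := Pc.get_cat_hi (get m R i) (rep16_lt hm R i) 0
      rw [Nat.add_zero] at h1
      rw [h1, Pc.get_zero_of_lt ((Pc.get_lt m R i).trans_le (Nat.pow_le_pow_right (by norm_num) hm))]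

theorem isPc_w16 {A : Type} [Group A] {y : ℕ → A} {m R : ℕ} (hm : m ≤ 16) (h : IsPc y 0 m m R) :
    IsPc y 0 m 16 (w16 m R) :=
  ⟨h.tsq, h.tc, fun k hk => (h.pw k hk).trans (by
      rw [show w16 m R = rep16 m R (tri m 0) from rfl, get_rep16 hm R _ (Asm.tri_lt hk le_rfl)]),
    fun k hk j hj => (h.cj k hk j hj).trans (by
      rw [show w16 m R = rep16 m R (tri m 0) from rfl, get_rep16 hm R _ (Asm.tri_lt hk hj.le)])⟩

/-- **The list of the groups of order `2 ^ n`, `3 ≤ n ≤ 8`.** -/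
theorem lst_old (hSq : BoxSq) {n : ℕ} (h3 : 3 ≤ n) (h8 : n ≤ 8) :
    Lst n (fun _ _ => True) ((Sw.S n).flatten.map fun T => w16 n T.rel) := by
  obtain ⟨n, rfl⟩ : ∃ m, n = m + 1 := ⟨n - 1, by omega⟩
  intro A _ _ hA _ F hF
  obtain ⟨l, hl, T, hT, y, hy⟩ := list hSq hF (by omega) (by omega) hA
  have h1 := Asm.shape (n + 1) (by simp only [List.mem_cons, List.not_mem_nil]; omega)
  have h2 := List.all_eq_true.1 (List.all_eq_true.1 h1 l hl) T hT
  rw [Bool.and_eq_true] at h2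
  have h4 := Nat.eq_of_beq_eq_true h2.2
  obtain ⟨h5, h6⟩ := hy.isPc (Nat.eq_of_beq_eq_true h2.1) h4.ge
  rw [h4] at h5
  exact ⟨_, List.mem_map.2 ⟨T, List.mem_flatten.2 ⟨l, hl, hT⟩, rfl⟩, y, hA, isPc_w16 (by omega) h5, h6⟩

/-! ### the levels `0`, `1`, `2` -/

/-- a nontrivial abelian group carries no system with trivial core -/
theorem not_comm {A : Type} [Group A] [Finite A] [Nontrivial A] (hA : IsPGroup 2 A) {F : Sys A} (hF : Hy0 F)
    (hc : ∀ x y : A, x * y = y * x) : False := by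
  obtain ⟨z, -, -, -, P, -, _, _, h, -⟩ := hF.exists_locZ_inv hA
  exact h.proper ((Subgroup.eq_top_iff' P).2 fun g => h.mem_of_centralizes fun x _ => hc g x)

/-- the entry of the trivial group -/
def ent0 : Ent := ⟨⟨0, 0, 0, 0, 0, []⟩, 0, 0⟩

theorem lev0 : Lev 0 [ent0] := by
  intro A _ _ hA F hF
  have : Subsingleton A := (Nat.card_eq_one_iff_unique.1 hA).1
  have h1 : hyp F = ⊤ := Subsingleton.elim _ _
  refine ⟨ent0, List.mem_singleton.2 rfl, fun _ => 1, ⟨?_, ⟨fun _ _ => Subsingleton.elim _ _,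
    fun _ _ _ _ => Subsingleton.elim _ _⟩, fun z hz => absurd hz List.not_mem_nil, fun g => ?_⟩,
    ⟨fun _ => h1, fun h => absurd rfl h⟩, Asm.good_of_subsingleton A F ⟨hF.sat, hF.core, h1⟩,
    fun h => absurd h (by decide), fun h => absurd h (by decide)⟩
  · exact Real.PcD.ok_of _ (by decide +kernel) (by decide +kernel) (by decide +kernel) (by decide +kernel)
      (by decide +kernel)
  · exact ⟨fun _ => ⟨0, Real.PcD.N_pos _, Subsingleton.elim _ _⟩, fun _ => Subgroup.mem_top g⟩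

theorem lev1 : Lev 1 [] := by
  intro A _ _ hA F hF
  have : Fact (Nat.Prime 2) := ⟨Nat.prime_two⟩
  have : Nontrivial A := Finite.one_lt_card_iff_nontrivial.1 (by rw [hA]; norm_num)
  have hc : IsCyclic A := isCyclic_of_prime_card (p := 2) (by rw [hA, pow_one])
  exact (not_comm (IsPGroup.of_card hA) hF.toHy0 hc.isMulCommutative.is_comm.comm).elim

theorem lev2 : Lev 2 [] := by
  intro A _ _ hA F hF
  have : Fact (Nat.Prime 2) := ⟨Nat.prime_two⟩
  have : Nontrivial A := Finite.one_lt_card_iff_nontrivial.1 (by rw [hA]; norm_num)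
  exact (not_comm (IsPGroup.of_card hA) hF.toHy0 (IsPGroup.isMulCommutative_of_card_eq_prime_sq hA).is_comm.comm).elim

end Cfsg.Agent.FS.N.G
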