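import Cfsg.Agent.FS.N.G.Q4A
import Cfsg.Agent.FS.N.B.Tv
import Cfsg.Agent.FS.Th.Tests

/-!
# S5288, the box `Q4` (helper21, project FS)

`boxQ4 : BoxQ4`.
-/

set_option autoImplicit false

namespace Cfsg.Agent.FS.N.G.Qf

open Cfsg Cfsg.FusionSystem Cfsg.Agent.H802 Cfsg.Agent.H752 Cfsg.Agent.FS.Th Cfsg.Agent.FS.B

variable {A : Type} [Group A] [Finite A]

/-- a nontrivial central involution all of whose images are fixed by the normalisers of the essential subgroups -/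
theorem false_of_fx (hA : IsPGroup 2 A) {F : Sys A} (hF : Hy0 F) {u : A} (hu : u ≠ 1) (h1 : Zc ⊤ u)
    (h2 : ∀ f Q, Mp F ⊤ f → F.IsEssential 2 Q → Fx F Q (f u)) : False := by
  have : Fact (Nat.Prime 2) := ⟨Nat.prime_two⟩
  have hS : IsPGroup 2 (⊤ : Subgroup A) := hA.to_subgroup ⊤
  have hcen : ∀ {Q : Subgroup A} {z : A}, F.IsEssential 2 Q → Zc ⊤ z → z ∈ Q := fun {Q z} hQ hz =>
    hQ.1.2 Q (isConj_refl F le_top) ⟨Subgroup.mem_top z, Subgroup.mem_centralizer_iff.2 fun x _ =>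
      hz.2.2 x (Subgroup.mem_top x)⟩
  have hmap : ∀ {f : A → A} {z : A}, Mp F ⊤ f → Zc ⊤ z → Zc ⊤ (f z) := fun hf hz =>
    hz.map hf fun _ _ => Subgroup.mem_top _
  let U : Subgroup A :=
    { carrier := {v | Zc ⊤ v ∧ ∀ f Q, Mp F ⊤ f → F.IsEssential 2 Q → Fx F Q (f v)}
      one_mem' := ⟨⟨Subgroup.mem_top _, one_mul _, fun x _ => by rw [mul_one, one_mul]⟩, fun f Q hf _ g hg _ s _ => by
        rw [hf.one, hg.one, mul_one, mul_inv_cancel]⟩
      mul_mem' := fun {a b} ha hb => ⟨ha.1.mul hb.1, fun f Q hf hQ => by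
        rw [hf.mul ha.1.1 hb.1.1]
        exact (ha.2 f Q hf hQ).mul (hb.2 f Q hf hQ) (hcen hQ (hmap hf ha.1)) (hcen hQ (hmap hf hb.1))⟩
      inv_mem' := fun {a} ha => by
        rw [inv_eq_of_mul_eq_one_right ha.1.2.1]
        exact ha }
  have hU : U ≠ ⊥ := fun e => hu (Subgroup.mem_bot.1 (e ▸ (⟨h1, h2⟩ : u ∈ U)))
  obtain ⟨h2, ⟨P, g, h3, h4⟩, h5⟩ := NB.nor_node hF hU fun s x hx => by
    rw [hx.1.conj (Subgroup.mem_top s)]
    exact hx
  rcases exists_fail hA hF.sat h2 h3 h4 with ⟨f, hf⟩ | ⟨Q, hQ, h6⟩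
  · exact hf.nm (h5 _ _ hf.mp le_top fun w hw => ⟨hmap hf.mp hw.1, fun f' Q hf' hQ =>
      hw.2 (f' ∘ f) Q (hf.mp.comp hf' fun _ _ => Subgroup.mem_top _) hQ⟩)
  · obtain ⟨t, -, h7⟩ := exists_sq_mem hS le_top (ne_of_isEssential hS hF.sat hQ)
    obtain ⟨τ, f, -, hf, hd⟩ := h6 t h7
    refine hf.nm (h5 _ _ hf.mp (fun w hw => hcen hQ hw.1) fun w hw => ?_)
    have hwQ := hcen hQ hw.1
    have h8 : f (f w) = w := by
      have h9 := hd.inv w hwQ
      rwa [hw.2 (fun x => x) Q (mp_id F le_rfl) hQ f hf.mp hf.mem τ hd.tN, hw.1.conj (Subgroup.mem_top τ)] at h9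
    obtain ⟨r, k, hr, hr2, h9⟩ := hf.ord
    obtain ⟨m, hm⟩ := (hr.odd_of_ne_two hr2).pow (n := k)
    have h10 : ∀ n, f^[2 * n] w = w := fun n => by
      induction n with
      | zero => rfl
      | succ n ih => rw [show 2 * (n + 1) = 2 * n + 1 + 1 by ring, Function.iterate_succ_apply,
          Function.iterate_succ_apply, h8, ih]
    have h11 := h9 w hwQ
    rw [hm, add_comm, Function.iterate_add_apply, h10, Function.iterate_one] at h11
    rw [h11]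
    exact hw

theorem conj_le {H : Type*} [Group H] [Finite H] {R B N : Subgroup H} (hp : IsPGroup 2 R) (hR : R ≤ B)
    (hm : ∀ N, N ≤ B → IsPGroup 2 N → R ≤ N → N ≤ R) (hNB : N ≤ B) (hN : IsPGroup 2 N) :
    ∃ d ∈ B, ∀ δ ∈ N, d * δ * d⁻¹ ∈ R := by
  have : Fact (Nat.Prime 2) := ⟨Nat.prime_two⟩
  let R₀ : Sylow 2 B := ⟨R.subgroupOf B, hp.comap_of_injective _ (Subgroup.subtype_injective _), fun {Q} hQ hle => by
      refine le_antisymm (fun x hx => ?_) hle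
      exact hm (Q.map B.subtype) (Subgroup.map_subtype_le Q) (hQ.map _) (fun δ hδ => ⟨⟨δ, hR hδ⟩, hle hδ, rfl⟩) ⟨x, hx, rfl⟩⟩
  obtain ⟨R', hR'⟩ := (hN.comap_of_injective B.subtype (Subgroup.subtype_injective _)).exists_le_sylow
  obtain ⟨c, hc⟩ := MulAction.exists_smul_eq B R' R₀
  refine ⟨c, c.2, fun δ hδ => ?_⟩
  have h3 : c * ⟨δ, hNB hδ⟩ * c⁻¹ ∈ (R₀ : Subgroup B) := by
    rw [← hc]
    exact Subgroup.smul_mem_pointwise_smul _ (MulAut.conj c) (R' : Subgroup B) (hR' hδ)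
  exact h3

variable {P : Subgroup A} {B D : Subgroup (MulAut P)} {z c v y : A}

omit [Finite A] in
theorem zc_fn (α : MulAut P) {x : A} (hx : Zc P x) : Zc P (fn α x) := by
  refine ⟨fn_mem α hx.1, by rw [← fn_map_mul α hx.1 hx.1, hx.2.1, fn_map_one], fun a ha => ?_⟩
  have h1 := fn_mem α⁻¹ ha
  rw [← fn_fn_inv α ha, ← fn_map_mul α h1 hx.1, ← fn_map_mul α hx.1 h1, hx.2.2 _ h1]

/-- an automorphism which moves the central involutions of `P` only by `z` fixes the central involutions of the group -/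
theorem fix_of_tv (h : Loc P B D) (hz : Zc ⊤ z) (hN : ∀ (s : A) (γ : MulAut P), Cj s γ → ∀ x, Zc P x → fn γ x = x ∨ fn γ x = x * z)
    {β : MulAut P} (hβ : β ∈ B) (h1 : fn β z = z) (h2 : ∀ x, Zc P x → fn β x = x ∨ fn β x = x * z) {w : A} (hw : Zc ⊤ w) :
    fn β w = w := by
  have : Fact (Nat.Prime 2) := ⟨Nat.prime_two⟩
  have := Loc.finAut P
  have hc : ∀ {a}, Zc ⊤ a → Zc P a := fun ha => ha.res (h.mem_of_centralizes fun x _ => (ha.2.2 x trivial).symm)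
  have hsq : ∀ a : MulAut P, fn a z = z → (∀ x, Zc P x → fn a x = x ∨ fn a x = x * z) → ∀ x, Zc P x → fn a (fn a x) = x :=
    fun a a1 a2 x hx => (a2 x hx).elim (fun e => by rw [e, e]) fun e => by
      rw [e, fn_map_mul a hx.1 (hc hz).1, e, a1, mul_assoc, hz.2.1, mul_one]
  let B₁ : Subgroup (MulAut P) :=
    { carrier := {a | a ∈ B ∧ fn a z = z ∧ ∀ x, Zc P x → fn a x = x ∨ fn a x = x * z}
      one_mem' := ⟨B.one_mem, fn_one (hc hz).1, fun x hx => Or.inl (fn_one hx.1)⟩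
      mul_mem' := fun {a b} ha hb => ⟨B.mul_mem ha.1 hb.1, by rw [fn_mul _ _ (hc hz).1, hb.2.1, ha.2.1], fun x hx => by
        rw [fn_mul _ _ hx.1]
        rcases hb.2.2 x hx with e | e <;> rw [e]
        · exact ha.2.2 x hx
        · rw [fn_map_mul a hx.1 (hc hz).1, ha.2.1]
          exact (ha.2.2 x hx).symm.imp (fun e => by rw [e, mul_assoc, hz.2.1, mul_one]) fun e => by rw [e]⟩
      inv_mem' := fun {a} ha => ⟨B.inv_mem ha.1, by rw [← ha.2.1, fn_inv_fn _ (hc hz).1, ha.2.1], fun x hx => by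
        rw [← hsq a ha.2.1 ha.2.2 x hx, fn_inv_fn _ (fn_mem a hx.1), hsq a ha.2.1 ha.2.2 x hx]
        exact ha.2.2 x hx⟩ }
  have h3 : autInducedBy ⊤ P ≤ B₁ := fun γ hγ => by
    obtain ⟨s, hs⟩ := mem_autTop_iff.1 hγ
    exact ⟨h.autA hγ, by rw [hs.fn (hc hz).1, hz.conj (Subgroup.mem_top s)], hN s γ hs⟩
  obtain ⟨k, m, ⟨j, rfl⟩, hm⟩ := Nat.exists_eq_two_pow_mul_odd (orderOf_pos β).ne'
  obtain ⟨d, hd, h4⟩ := conj_le h.pgAut h3 (fun N hN => h.max N fun _ e => (hN e).1)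
    (Subgroup.zpowers_le.2 (B₁.pow_mem (⟨hβ, h1, h2⟩ : β ∈ B₁) (2 * j + 1)))
    (isPGroup_zpowers_of_pow (k := k) (by rw [← pow_mul, mul_comm, ← hm, pow_orderOf_eq_one]))
  obtain ⟨s, hs⟩ := mem_autTop_iff.1 (h4 _ (Subgroup.mem_zpowers _))
  have h5 : ∀ i, fn (β ^ (2 * i)) w = w := fun i => by
    induction i with
    | zero => exact fn_one (hc hw).1
    | succ i ih => rw [mul_add_one, pow_add, pow_two, fn_mul _ _ (hc hw).1, fn_mul _ _ (hc hw).1, hsq β h1 h2 w (hc hw), ih]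
  have h6 : Zc ⊤ (fn d w) := (hd.2.2 w (hc hw)).elim (fun e => e.symm ▸ hw) fun e => e.symm ▸ hw.mul hz
  have h7 := hs.fn (fn_mem d (hc hw).1)
  rw [h6.conj (Subgroup.mem_top s), fn_mul _ _ (fn_mem d (hc hw).1), fn_inv_fn d (hc hw).1, fn_mul _ _ (hc hw).1, pow_succ',
    fn_mul _ _ (hc hw).1, h5] at h7
  exact fn_inj d (fn_mem β (hc hw).1) (hc hw).1 h7

/-- two transvections one of which fixes the centre of the other lie in a `2`-group -/
theorem exists_two {V : Type*} [Group V] [Finite V] (hV : IsPGroup 2 V) (hc : ∀ a b : V, a * b = b * a) {γ δ : MulAut V}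
    {z u : V} (h1 : ∀ x, γ x = x ∨ γ x = x * z) (h2 : ∀ x, δ x = x ∨ δ x = x * u) (h3 : γ z = z) (h4 : γ u = u)
    (h5 : δ u = u) : ∃ N : Subgroup (MulAut V), IsPGroup 2 N ∧ γ ∈ N ∧ δ ∈ N := by
  have : Fact (Nat.Prime 2) := ⟨Nat.prime_two⟩
  let K : ℕ → Subgroup V := fun i => if i = 0 then ⊥ else if i = 1 then Subgroup.zpowers u else
    if i = 2 then Subgroup.zpowers u ⊔ Subgroup.zpowers z else ⊤
  have key : ∀ (τ : MulAut V) (w : V), (∀ x, τ x = x ∨ τ x = x * w) → τ u = u → w ∈ K 2 →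
      (∀ x ∈ K 2, τ x * x⁻¹ ∈ K 1) → τ ∈ chainStab K 3 := fun τ w a1 a2 a3 a4 => by
    have a5 : ∀ x ∈ Subgroup.zpowers u, τ x = x := by
      rintro _ ⟨i, rfl⟩
      rw [map_zpow, a2]
    refine mem_chainStab (fun i x hx => ?_) fun i hi x hx => ?_
    · rcases i with _ | _ | _ | i
      · rw [Subgroup.mem_bot.1 hx, map_one]
        exact one_mem _
      · rwa [a5 x hx]
      · exact (a1 x).elim (fun e => e.symm ▸ hx) fun e => e.symm ▸ mul_mem hx a3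
      · exact Subgroup.mem_top _
    · rcases i with _ | _ | _ | i
      · rw [a5 x hx, mul_inv_cancel]
        exact one_mem _
      · exact a4 x hx
      · rcases a1 x with e | e <;> rw [e]
        · rw [mul_inv_cancel]
          exact one_mem _
        · rwa [hc x, mul_inv_cancel_right]
      · omega
  refine ⟨chainStab K 3, isPGroup_chainStab hV rfl fun M hM => (sup_bot_eq M).symm.trans hM,
    key γ z h1 h4 (Subgroup.mem_sup_right (Subgroup.mem_zpowers z)) fun x hx => ?_,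
    key δ u h2 h5 (Subgroup.mem_sup_left (Subgroup.mem_zpowers u)) fun x _ => ?_⟩
  · have a1 : Subgroup.zpowers u ⊔ Subgroup.zpowers z ≤ γ.toMonoidHom.eqLocus (MonoidHom.id V) :=
      sup_le (Subgroup.zpowers_le.2 h4) (Subgroup.zpowers_le.2 h3)
    rw [show γ x = x from a1 hx, mul_inv_cancel]
    exact one_mem _
  · rcases h2 x with e | e <;> rw [e]
    · rw [mul_inv_cancel]
      exact one_mem _
    · rw [hc x, mul_inv_cancel_right]
      exact Subgroup.mem_zpowers u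

omit [Finite A] in
theorem Sv.zz (S : Sv z c v y) : Zc ⊤ z := ⟨trivial, S.z2, fun x _ => (S.zc x).symm⟩

omit [Finite A] in
theorem Sv.cz2 (S : Sv z c v y) : c * z * (c * z) = z := by
  rw [mul_assoc, ← mul_assoc z, S.zc, mul_assoc, S.z2, mul_one, S.c2]

omit [Finite A] in
/-- the action of the normaliser on the central involutions -/
theorem Sv.act (S : Sv z c v y) {s x : A} (hs : ∀ x ∈ P, s * x * s⁻¹ ∈ P) (hx : Zc P x) :
    s * x * s⁻¹ = x ∨ s * x * s⁻¹ = x * z := by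
  have h1 : s * x * s⁻¹ * x⁻¹ * (s * x * s⁻¹ * x⁻¹) = 1 := by
    rw [inv_eq_of_mul_eq_one_right hx.2.1, mul_assoc, ← mul_assoc x, ← hx.2.2 _ (hs x hx.1), mul_assoc (s * x * s⁻¹) x x,
      hx.2.1, mul_one, conj_mul, hx.2.1, mul_one, mul_inv_cancel]
  rcases S.cm s x with e | e | e | e
  · exact Or.inl (mul_inv_eq_one.1 e)
  · exact Or.inr ((mul_inv_eq_iff_eq_mul.1 e).trans (S.zc x))
  · exact absurd (S.c2.symm.trans (e ▸ h1)) S.ne
  · exact absurd (S.cz2.symm.trans (e ▸ h1)) S.ne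

/-- the shape of a subgroup at which a central involution is moved -/
theorem Sv.bad (S : Sv z c v y) (h : Loc P B D) {α : MulAut P} (hα : α ∈ B) {s w : A} (hs : ∀ x ∈ P, s * x * s⁻¹ ∈ P)
    (hw : Zc ⊤ w) (hm : s * fn α w * s⁻¹ ≠ fn α w) : Bad P := by
  have hc : ∀ {a}, Zc ⊤ a → Zc P a := fun ha => ha.res (h.mem_of_centralizes fun x _ => (ha.2.2 x trivial).symm)
  have hz := hc S.zz
  have hN : ∀ (s : A) (γ : MulAut P), Cj s γ → ∀ x, Zc P x → fn γ x = x ∨ fn γ x = x * z := fun s γ hγ x hx => by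
    rw [hγ.fn hx.1]
    exact S.act hγ.mapsTo hx
  have h1 : fn α z ≠ z := fun e => by
    obtain ⟨γ, hγ⟩ := exists_cj hs
    have e1 : fn α⁻¹ z = z := by rw [← e, fn_inv_fn α hz.1, e]
    have e2 : ∀ x ∈ P, fn (α⁻¹ * γ * α) x = fn α⁻¹ (fn γ (fn α x)) := fun x hx => by
      rw [fn_mul _ _ hx, fn_mul _ _ (fn_mem α hx)]
    have e3 := fix_of_tv h S.zz hN (B.mul_mem (B.mul_mem (B.inv_mem hα) (h.autA hγ.mem)) hα)
      (by rw [e2 z hz.1, e, hγ.fn hz.1, S.zz.conj (Subgroup.mem_top s), e1]) (fun x hx => by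
        rw [e2 x hx.1]
        refine (hN s γ hγ _ (zc_fn α hx)).imp (fun e3 => ?_) fun e3 => ?_ <;> rw [e3]
        · exact fn_inv_fn α hx.1
        · rw [fn_map_mul _ (fn_mem α hx.1) hz.1, fn_inv_fn α hx.1, e1]) hw
    have e4 := congrArg (fn α) e3
    rw [e2 w (hc hw).1, fn_fn_inv α (fn_mem γ (fn_mem α (hc hw).1)), hγ.fn (fn_mem α (hc hw).1)] at e4
    exact hm e4
  have h2 : ∀ x ∈ P, x * x ≠ z := fun x hx e => by
    have e1 : fn α x * fn α x = fn α z := by rw [← fn_map_mul α hx hx, e]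
    have e2 := (zc_fn α hz).2.1
    rcases S.sq (fn α x) with e3 | e3 | e3 | e3 <;> rw [e1] at e3
    · exact S.ne (fn_inj α hz.1 P.one_mem (e3.trans (fn_map_one α).symm))
    · exact h1 e3
    · exact S.ne (S.c2.symm.trans (e3 ▸ e2))
    · exact S.ne (S.cz2.symm.trans (e3 ▸ e2))
  have h3 : ∀ x ∈ P, x * x = 1 := fun x hx => by
    rcases S.sq x with e | e | e | e
    · exact e
    · exact absurd e (h2 x hx)
    · exact absurd S.c2 (h2 c (e ▸ P.mul_mem hx hx))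
    · exact absurd S.cz2 (h2 _ (e ▸ P.mul_mem hx hx))
  have h4 : ∀ a ∈ P, ∀ b ∈ P, a * b = b * a := fun a ha b hb => by
    have e := h3 _ (P.mul_mem ha hb)
    rwa [← eq_inv_iff_mul_eq_one, mul_inv_rev, inv_eq_of_mul_eq_one_right (h3 a ha),
      inv_eq_of_mul_eq_one_right (h3 b hb)] at e
  have h5 : ∀ x ∈ P, Zc P x := fun x hx => ⟨hx, h3 x hx, fun a ha => h4 a ha x hx⟩
  obtain ⟨a, ha, haD⟩ := SetLike.not_le_iff_exists.1 h.ne
  have h6 : ∀ t, (∀ x ∈ P, t * x * t⁻¹ ∈ P) → t * fn a z * t⁻¹ = fn a z → t ∈ P := fun t ht e => by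
    obtain ⟨γ, hγ⟩ := exists_cj ht
    have e1 : ∀ x : P, γ x = x ∨ γ x = x * ⟨z, hz.1⟩ := fun x =>
      (S.act ht (h5 x x.2)).imp (fun e => Subtype.ext ((hγ x).trans e)) fun e => Subtype.ext ((hγ x).trans e)
    have e2 : γ ⟨z, hz.1⟩ = ⟨z, hz.1⟩ := Subtype.ext ((hγ _).trans (S.zz.conj (Subgroup.mem_top t)))
    obtain ⟨N, hN, e3, e4⟩ := exists_two (h.pg.to_subgroup P) (fun a b => Subtype.ext (h4 a a.2 b b.2)) (γ := γ)
      (δ := a * γ * a⁻¹) (u := a ⟨z, hz.1⟩) e1 (fun x => by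
        show a (γ (a⁻¹ x)) = x ∨ a (γ (a⁻¹ x)) = _
        refine (e1 (a⁻¹ x)).imp (fun e => ?_) fun e => ?_ <;> rw [e]
        · exact MulAut.apply_inv_self _ _ _
        · rw [map_mul, MulAut.apply_inv_self]) e2
      (Subtype.ext ((hγ _).trans (fn_apply a hz.1 ▸ e))) (by
        show a (γ (a⁻¹ (a _))) = _
        rw [MulAut.inv_apply_self, e2])
    have e5 := h.autA hγ.mem
    exact h.mem_of_normalized ha haD (N := N ⊓ B) inf_le_right hN.to_inf_left hγ ⟨e3, e5⟩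
      ⟨e4, B.mul_mem (B.mul_mem ha e5) (B.inv_mem ha)⟩
  refine ⟨h3, fun g hg => h.mem_of_centralizes hg, fun s t hs ht h7 h8 => h6 _ (fun x hx => ?_) ?_⟩
  · obtain ⟨γ, hγ⟩ := exists_cj ht
    rw [show t⁻¹ * s * x * (t⁻¹ * s)⁻¹ = t⁻¹ * (s * x * s⁻¹) * t⁻¹⁻¹ by group]
    exact hγ.inv.mapsTo _ (hs x hx)
  · have e1 := (S.act hs (zc_fn a hz)).resolve_left fun e => h7 (h6 s hs e)
    have e2 := (S.act ht (zc_fn a hz)).resolve_left fun e => h8 (h6 t ht e)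
    rw [show t⁻¹ * s * fn a z * (t⁻¹ * s)⁻¹ = t⁻¹ * (s * fn a z * s⁻¹) * t by group, e1, ← e2]
    group

omit [Finite A] in
theorem Sv.tvP (S : Sv z c v y) (h : Bad P) : TvP P c z :=
  ⟨fun s hs => (em _).imp_right fun e => h.two s c hs (S.c_nor h) e (S.c_not h), fun x _ => S.conj_c x⟩

end Cfsg.Agent.FS.N.G.Qf

namespace Cfsg.Agent.FS.N.G

open Cfsg Cfsg.FusionSystem Cfsg.Agent.H752 Cfsg.Agent.FS.Th Cfsg.Agent.FS.B Qf

/-- **The exception of the generation at the order `2 ^ 9`.** -/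
theorem boxQ4 : BoxQ4 := by
  classical
  intro A _ _ hc h2 F hF z c z2 zc hq
  have : Fact (Nat.Prime 2) := ⟨Nat.prime_two⟩
  have hA : IsPGroup 2 A := IsPGroup.of_card hc
  obtain ⟨v, y, S⟩ := exists_sv h2 z2 zc hq
  have h1 : ∀ Q, F.IsEssential 2 Q → ∀ w, Zc ⊤ w → Fx F Q w ∨ Bad Q := fun Q hQ w hw => by
    refine (em _).imp_right fun e => ?_
    simp only [Fx, not_forall] at e
    obtain ⟨g, hg, hm, s, hs, e⟩ := e
    obtain ⟨D, hD⟩ := locM_of_essential hA hF.sat hQ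
    obtain ⟨α, hα, h3⟩ := hg.exists_aut hm
    have h4 : w ∈ Q := hD.mem_of_centralizes fun x _ => (hw.2.2 x trivial).symm
    exact S.bad hD hα hs hw (by rwa [fn_apply α h4, ← h3 w h4])
  have hmap : ∀ {f : A → A} {w : A}, Mp F ⊤ f → Zc ⊤ w → Zc ⊤ (f w) := fun hf hw => hw.map hf fun _ _ => Subgroup.mem_top _
  by_cases h3 : ∃ P : Subgroup A, Bad P
  swap
  · exact false_of_fx hA hF S.ne S.zz fun f Q hf hQ => (h1 Q hQ _ (hmap hf S.zz)).resolve_right fun e => h3 ⟨Q, e⟩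
  obtain ⟨P₀, h3⟩ := h3
  obtain ⟨V, hV, h4⟩ := S.exists_V h3 hc
  have := Fintype.ofFinite V
  obtain ⟨a, b, hab, h5⟩ := Fintype.exists_ne_map_eq_of_card_lt (fun (w : V) (i : Fin 4) =>
    decide (∀ P, Bad P → c * (v * [1, c, y, y * c][i]) ≠ v * [1, c, y, y * c][i] * c → v * [1, c, y, y * c][i] ∈ P → Fx F P w))
    (by rwa [Fintype.card_fun, Fintype.card_bool, Fintype.card_fin, ← Nat.card_eq_fintype_card])
  have ha : Zc ⊤ (a : A) := ⟨trivial, (h4 a a.2).1, fun x _ => (h4 a a.2).2 x⟩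
  have hb : Zc ⊤ (b : A) := ⟨trivial, (h4 b b.2).1, fun x _ => (h4 b b.2).2 x⟩
  have h6 : ∀ P : Subgroup A, Bad P → ∀ w, Zc ⊤ w → w ∈ P := fun P hP w hw => hP.cen w fun x _ => (hw.2.2 x trivial).symm
  have h7 : ∀ P, Bad P → F.IsFullyNormalized P → Fx F P (a * b) := fun P hP hn => by
    obtain ⟨k, hk, k1, k2⟩ := S.rep hP
    obtain ⟨i, rfl⟩ := List.mem_iff_get.1 hk
    have h8 := decide_eq_decide.1 (congrFun h5 i)
    have h9 : ∀ w, (∀ P', Bad P' → c * (v * [1, c, y, y * c][i]) ≠ v * [1, c, y, y * c][i] * c →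
        v * [1, c, y, y * c][i] ∈ P' → Fx F P' w) ↔ Fx F P w := fun w => ⟨fun e => e P hP k1 k2, fun e P' hP' _ e1 =>
      le_antisymm (S.le_of_mem hP hP' k1 k2 e1) (S.le_of_mem hP' hP k1 e1 k2) ▸ e⟩
    have h10 : Fx F P a ↔ Fx F P b := (h9 a).symm.trans (h8.trans (h9 b))
    by_cases e : Fx F P a
    · exact e.mul (h10.1 e) (h6 P hP _ ha) (h6 P hP _ hb)
    · exact fx_one hA hF.sat hn (S.tvP hP) ha hb (h6 P hP _ ha) (h6 P hP _ hb) e fun e1 => e (h10.2 e1)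
  refine false_of_fx hA hF (u := a * b) (fun e => hab (Subtype.ext ?_)) (ha.mul hb) fun f Q hf hQ => ?_
  · rwa [mul_eq_one_iff_eq_inv, inv_eq_of_mul_eq_one_right hb.2.1] at e
  refine (h1 Q hQ _ (hmap hf (ha.mul hb))).elim id fun hB => ?_
  obtain ⟨θ, hθ⟩ := Mp.exists_top hf
  have h8 : Mp F ⊤ θ := hf.congr fun x _ => hθ x
  have h9 : ∀ x, x ∈ Q ↔ θ⁻¹ x ∈ Q.comap θ.toMonoidHom := fun x => by
    show _ ↔ θ (θ⁻¹ x) ∈ Q
    rw [MulAut.apply_inv_self]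
  have h10 := (h7 _ (hB.comap θ) (isFullyNormalized_image hQ.2.1 ((mp_inv h8).res le_top) fun x =>
    ⟨fun e => ⟨θ x, e, MulAut.inv_apply_self _ _ _⟩, fun ⟨x', e, e1⟩ => e1 ▸ (h9 x').1 e⟩)).map
      (h6 _ (hB.comap θ) _ (ha.mul hb)) (mp_inv h8) (mp_inv (mp_inv h8)) h9
  rwa [inv_inv, hθ] at h10

end Cfsg.Agent.FS.N.G
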