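import Cfsg.Agent.FS.N.G.Exc

/-!
# The checks of the generation at the orders `2 ^ 8` and `2 ^ 9` (helper49, project FS)
-/

set_option autoImplicit false

namespace Cfsg.Agent.FS.N.G

open Gen
open Pc (el zp Base Ext)

noncomputable def bor (a b : Bool) : Bool := Bool.rec b true a

theorem bor_spec {a b : Bool} (h : bor a b = true) : a = true ∨ b = true := by
  cases a
  · exact Or.inr h
  · exact Or.inl rfl

/-- certificate for a filtration -/
structure Fi where
  K : ℕ
  th : ℕ
  t : ℕ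
  ys : ℕ
  bs : ℕ

/-- the table of a base -/
noncomputable def tabK (n r w P : ℕ) (k : (ℕ → ℕ → ℕ) → Bool) : Bool :=
  frc (Nat.add r n) fun wr => frc (Nat.shiftLeft wr n) fun W => frc (tab r wr (relf r w P) n) fun M => k (mul r wr W M)

/-- the check of a base of order `2 ^ 8` -/
noncomputable def base9OK (B : Base) (ce : Ce × Fi) : Bool :=
  Base.rec (motive := fun _ => Bool) (fun r w P cnt reps => Ce.rec (motive := fun _ => Bool)
    (fun ne tri msk mu Y au sch => Fi.rec (motive := fun _ => Bool) (fun K th t ys bs =>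
      frc r fun r => frc w fun w => frc P fun P =>
      band (Nat.ble (Nat.add r 8) w) (band (filtOK 8 r w P K th t)
        (band (bor (Nat.ble K 2) (tabK 8 r w P fun m => witOK m r (Nat.add r 8) K ys bs))
          (band (redOK 8 r w P ne tri msk mu Y) (bor (Nat.ble r t) (band (Nat.blt 0 cnt) (band (auOK 8 r w P au)
            (cover r (au.map Au.sh) sch (Nat.lor (seedsT r cnt reps r 0) (Nat.pred (Nat.pow 2 (Nat.pow 2 t)))))))))))) ce.2)
      ce.1) B

variable {A : Type} [Group A]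

theorem base9OK_spec {B : Base} {ce : Ce × Fi} (h : base9OK B ce = true) (hA : Nat.card A = 2 ^ (8 + 1)) {z : A}
    (z1 : z ≠ 1) (hz : Lz 2 z) {c₀ : ℕ} {x : ℕ → A}
    (h7 : Gen.Rel (tr 8 0) 8 (full (tr 8 0) (topf B.r B.w B.rel)) c₀ z x) (h8 : Gn 8 z x) : B.Has 8 z := by
  obtain ⟨r, w, P, cnt, reps⟩ := B
  obtain ⟨⟨ne, tri, msk, mu, Y, au, sch⟩, K, th, t, ys, bs⟩ := ce
  have h0 : (frc r fun r => frc w fun w => frc P fun P =>
      band (Nat.ble (Nat.add r 8) w) (band (filtOK 8 r w P K th t)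
        (band (bor (Nat.ble K 2) (tabK 8 r w P fun m => witOK m r (Nat.add r 8) K ys bs))
          (band (redOK 8 r w P ne tri msk mu Y) (bor (Nat.ble r t) (band (Nat.blt 0 cnt) (band (auOK 8 r w P au)
            (cover r (au.map Au.sh) sch
              (Nat.lor (seedsT r cnt reps r 0) (Nat.pred (Nat.pow 2 (Nat.pow 2 t)))))))))))) = true := h
  rw [frc_eq, frc_eq, frc_eq] at h0
  obtain ⟨h1, h0⟩ := band_spec h0
  obtain ⟨h2, h0⟩ := band_spec h0
  obtain ⟨h3, h0⟩ := band_spec h0
  obtain ⟨h4, h0⟩ := band_spec h0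
  have hw : r + 8 ≤ w := Nat.le_of_ble_eq_true h1
  obtain ⟨c, hc, h9⟩ := redOK_spec h4 z1 h7 h8
  have ex : ∀ c, (∀ i, t ≤ i → i < r → c.testBit i = false) →
      (∃ y, Gen.Rel r 8 (relf r w P) c z y ∧ Gn 8 z y) → False := by
    rintro c h5 ⟨y, h6, h10⟩
    have hx := h6.ext h10 hw hA
    refine not_lz (filt_spec h2 hx h5) ((bor_spec h3).imp Nat.le_of_ble_eq_true fun h11 => ?_) hz
    unfold tabK at h11
    rw [frc_eq, frc_eq, frc_eq] at h11
    exact wit_spec h6 (relf_bd r 8 w P) (h6.mu (relf_bd r 8 w P)) h11 (ext_inj hx)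
  rcases bor_spec h0 with h0 | h0
  · exact (ex c (fun i h5 h6 => absurd (Nat.le_of_ble_eq_true h0) (by omega)) h9).elim
  obtain ⟨h5, h0⟩ := band_spec h0
  obtain ⟨h6, h0⟩ := band_spec h0
  rcases Nat.eq_zero_or_pos r with hr | hr
  · exact (ex c (fun i _ h6 => by omega) h9).elim
  refine cover_sound hr h0 (Q := fun c => (∃ y, Gen.Rel r 8 (relf r w P) c z y ∧ Gn 8 z y) →
    Base.Has ⟨r, w, P, cnt, reps⟩ 8 z) (fun c _ h10 h11 => ?_) (fun L hL c _ h10 h11 => ?_) c hc h9
  · have h12 : Nat.testBit (seedsT r cnt reps r 0 ||| (2 ^ 2 ^ t - 1)) c = true := h10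
    rw [Nat.testBit_or, Bool.or_eq_true, Nat.testBit_two_pow_sub_one, decide_eq_true_iff] at h12
    rcases h12 with h12 | h12
    · obtain ⟨i, hi, rfl⟩ := seedsT_spec r 0 (blt_lt h5) h12
      obtain ⟨y, h13, h14⟩ := h11
      have h15 := h13.ext h14 hw hA
      rw [gt_eq] at h15
      exact ⟨i, hi, y, h15⟩
    · exact (ex c (fun i h13 _ => Nat.testBit_lt_two_pow (h12.trans_le (Nat.pow_le_pow_right (by norm_num) h13))) h11).elim
  · obtain ⟨a, ha, rfl⟩ := List.mem_map.1 hL
    obtain ⟨y, h12, h13⟩ := h11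
    exact h10 (auOK_spec hr h6 ha h12 h13)

/-- the numbers `lo + k - 1, …, lo`: excluded by `ex`, or with a certificate -/
noncomputable def runC {β : Type} (ex : ℕ → Bool) (p : ℕ → β → Bool) (f : ℕ → ℕ) (lo k : ℕ) : List β → Bool :=
  Nat.rec (fun _ => true) (fun i ih M => frc (f (Nat.add lo i)) fun c => Bool.rec (motive := fun _ => Bool)
    (List.rec false (fun b M' _ => band (p c b) (ih M')) M) (ih M) (ex c)) k

theorem runC_spec {β : Type} {ex : ℕ → Bool} {p : ℕ → β → Bool} {f : ℕ → ℕ} {lo : ℕ} :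
    ∀ {k : ℕ} {M : List β}, runC ex p f lo k M = true → ∀ i, lo ≤ i → i < lo + k →
      ex (f i) = true ∨ ∃ b, p (f i) b = true
  | 0, _, _, _, h1, h2 => by omega
  | k + 1, M, h, i, h1, h2 => by
    have h3 : (frc (f (Nat.add lo k)) fun c => Bool.rec (motive := fun _ => Bool)
      (List.rec false (fun b M' _ => band (p c b) (runC ex p f lo k M')) M) (runC ex p f lo k M) (ex c)) = true := h
    rw [frc_eq] at h3
    have h4 : (ex (f (lo + k)) = true ∨ ∃ b, p (f (lo + k)) b = true) ∧ ∃ M', runC ex p f lo k M' = true := by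
      cases h5 : ex (f (lo + k))
      · erw [h5] at h3
        cases M with
        | nil => cases h3
        | cons b M' => exact ⟨Or.inr ⟨b, (band_spec h3).1⟩, M', (band_spec h3).2⟩
      · erw [h5] at h3
        exact ⟨Or.inl rfl, M, h3⟩
    by_cases h5 : i = lo + k
    · rw [h5]
      exact h4.1
    · obtain ⟨M', h6⟩ := h4.2
      exact runC_spec h6 i h1 (by omega)

/-- a segment of the base number `j`: new relations `P`, generators `Y`, tails `mu`, inverse words `I` -/
structure Job where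
  j : ℕ
  lo : ℕ
  k : ℕ
  P : ℕ
  Y : ℕ
  mu : ℕ
  I : ℕ
  fi : Fi
  cs : List Ic

/-- the check of a segment of the extensions of a base of order `2 ^ 7` -/
noncomputable def segOK (LL : List (List Base)) (B : Base) (J : Job) : Bool :=
  Base.rec (motive := fun _ => Bool) (fun r w P _ reps => Job.rec (motive := fun _ => Bool)
    (fun _ lo k P' Y mu I fi cs => Fi.rec (motive := fun _ => Bool) (fun K th t ys bs =>
      frc r fun r => frc (Nat.succ r) fun r1 => frc (Nat.add r1 7) fun wp => frc reps fun reps =>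
      plusK 7 r w P fun m => band (filtOK 7 r w P' K th t) (band (bor (Nat.ble K 1) (witOK m r1 wp K ys bs))
        (band (homR m (gt wp Y) (gt r1 mu) r 7 (relf r w P') fun _ _ d => Nat.beq d 0) (band (invs m (gt wp Y) r1 7 7 I)
          (runC (fun c => allB (Nat.sub r t) fun i => Nat.beq (pty r1 (gt r1 mu (Nat.add t i)) c) 0)
            (fun c a => Ic.rec (motive := fun _ => Bool) (fun ix Y I => icOK 7 r1 wp c m LL ix Y I) a)
            (fun i => Nat.succ (Nat.mul 2 (gt r reps i))) lo k cs))))) fi) J) B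

/-- the extension number `i` of the base is in the list if `z` is in the last term of the series -/
def Good (LL : List (List Base)) (B : Base) (i : ℕ) : Prop :=
  ∀ (A : Type) [Group A] (z : A) (x : ℕ → A), Ext z x (Pc.get B.r B.reps i) B.r 7 B.w B.rel → Lz 1 z →
    ∃ l ∈ LL, ∃ T ∈ l, ∃ y : ℕ → A, P0 8 T y

theorem segOK_spec {LL : List (List Base)} {B : Base} {J : Job} (h : segOK LL B J = true) {i : ℕ} (h1 : J.lo ≤ i)
    (h2 : i < J.lo + J.k) : Good LL B i := by
  obtain ⟨r, w, P, cnt, reps⟩ := B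
  obtain ⟨j, lo, k, P', Y, mu, I, ⟨K, th, t, ys, bs⟩, cs⟩ := J
  intro A _ z x hx hz
  have h0 : (frc r fun r => frc (Nat.succ r) fun r1 => frc (Nat.add r1 7) fun wp => frc reps fun reps =>
      plusK 7 r w P fun m => band (filtOK 7 r w P' K th t) (band (bor (Nat.ble K 1) (witOK m r1 wp K ys bs))
        (band (homR m (gt wp Y) (gt r1 mu) r 7 (relf r w P') fun _ _ d => Nat.beq d 0) (band (invs m (gt wp Y) r1 7 7 I)
          (runC (fun c => allB (Nat.sub r t) fun i => Nat.beq (pty r1 (gt r1 mu (Nat.add t i)) c) 0)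
            (fun c a => Ic.rec (motive := fun _ => Bool) (fun ix Y I => icOK 7 r1 wp c m LL ix Y I) a)
            (fun i => Nat.succ (Nat.mul 2 (gt r reps i))) lo k cs))))) = true := h
  rw [frc_eq, frc_eq, frc_eq, frc_eq] at h0
  obtain ⟨m, h3, h4⟩ := plusK_spec.{0} h0
  obtain ⟨a1, h3⟩ := band_spec h3
  obtain ⟨a2, h3⟩ := band_spec h3
  obtain ⟨a3, h3⟩ := band_spec h3
  obtain ⟨a4, a5⟩ := band_spec h3
  have hx' : Ext z x (gt r reps i) r 7 w P := by rw [gt_eq]; exact hx
  obtain ⟨h6, h7⟩ := Ext.rel hx'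
  have hm := h4 A z x _ h6
  have hb := (relf_bd r 7 w P).plus
  rcases runC_spec a5 i h1 h2 with h8 | ⟨⟨ix, Y', I'⟩, h8⟩
  · exfalso
    obtain ⟨c', -, hc'⟩ := exists_bits (fun l => dot (r + 1) (gt (r + 1) mu l) (2 * gt r reps i + 1)) r
    have h9 := h6.plus.hom hb hm (gt_lt _ Y) (gt_lt _ mu) (fun l hl => (hc' l hl).symm) (relf_bd r 7 w P')
      (fun k j d hd => by
        rw [Nat.eq_of_beq_eq_true hd, dot_zero_left]
        exact ⟨Nat.two_pow_pos _, rfl⟩) a3
    refine not_lz (filt_spec a1 (h9.ext (h6.plus.gn hb hm (gt_lt _ Y) a4 h7) hx'.width hx'.card) fun l h10 h11 => ?_)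
      ((bor_spec a2).imp Nat.le_of_ble_eq_true fun h11 => wit_spec h6.plus hb hm h11 (ext_inj hx')) hz
    have h12 := Nat.eq_of_beq_eq_true (allB_spec h8 (l - t) (show l - t < r - t by omega))
    rw [hc' l h11, ← pty_spec (gt_lt _ _ _), show l = Nat.add t (l - t) from by show l = t + (l - t); omega]
    erw [h12]
    rfl
  · exact icOK_spec h6.plus hb h7 hm h8

/-- a list of segments -/
noncomputable def jobs (LL : List (List Base)) (l : List Base) (Js : List Job) : Bool :=
  allL (fun J => look (fun B => segOK LL B J) l J.j) Js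

/-- the segments of the base number `j` cover the numbers below this one (the last segment comes first) -/
noncomputable def reach (j : ℕ) (Js : List Job) : ℕ := List.rec 0 (fun J _ a => frc a fun a =>
  Bool.rec a (Nat.add J.lo J.k) (band (Nat.beq J.j j) (Nat.beq J.lo a))) Js

/-- the segments cover all representatives -/
noncomputable def cov (l : List Base) (Js : List Job) : Bool :=
  allB l.length fun j => look (fun B => Nat.ble B.cnt (reach j Js)) l j

def Dn (LL : List (List Base)) (l : List Base) : Prop := ∀ B ∈ l, ∀ i, i < B.cnt → Good LL B i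

theorem look_get {α : Type} {p : α → Bool} : ∀ {L : List α} {k : ℕ} (hk : k < L.length), look p L k = p L[k]
  | _ :: _, 0, _ => rfl
  | _ :: L, k + 1, hk => look_get (L := L) (k := k) (Nat.lt_of_succ_lt_succ hk)

theorem reach_spec {j : ℕ} : ∀ {Js : List Job} {i : ℕ}, i < reach j Js → ∃ J ∈ Js, J.j = j ∧ J.lo ≤ i ∧ i < J.lo + J.k
  | [], _, h => absurd h (Nat.not_lt_zero _)
  | J :: Js, i, h => by
    have e : reach j (J :: Js) = Bool.rec (motive := fun _ => ℕ) (reach j Js) (J.lo + J.k)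
      (band (Nat.beq J.j j) (Nat.beq J.lo (reach j Js))) := frc_eq (reach j Js) fun a =>
        Bool.rec (motive := fun _ => ℕ) a (Nat.add J.lo J.k) (band (Nat.beq J.j j) (Nat.beq J.lo a))
    by_cases h1 : i < reach j Js
    · obtain ⟨K, h2, h3⟩ := reach_spec h1
      exact ⟨K, List.mem_cons_of_mem _ h2, h3⟩
    · rw [e] at h
      cases h2 : band (Nat.beq J.j j) (Nat.beq J.lo (reach j Js))
      · rw [h2] at h
        exact absurd h h1
      · rw [h2] at h
        obtain ⟨h3, h4⟩ := band_spec h2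
        refine ⟨J, List.mem_cons_self, Nat.eq_of_beq_eq_true h3, ?_, h⟩
        rw [Nat.eq_of_beq_eq_true h4]
        exact Nat.le_of_not_lt h1

theorem jobs_append {LL : List (List Base)} {l : List Base} {Js Ks : List Job} (h1 : jobs LL l Js = true)
    (h2 : ∀ J ∈ Ks, look (fun B => segOK LL B J) l J.j = true) :
    ∀ J ∈ Js ++ Ks, look (fun B => segOK LL B J) l J.j = true := fun J hJ =>
  (List.mem_append.1 hJ).elim (allL_spec h1 J) (h2 J)

theorem dn_of {LL : List (List Base)} {l : List Base} {Js : List Job}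
    (h : ∀ J ∈ Js, look (fun B => segOK LL B J) l J.j = true) (hc : cov l Js = true) : Dn LL l := by
  intro B hB i hi
  obtain ⟨j, hj, rfl⟩ := List.getElem_of_mem hB
  have h1 := allB_spec hc j hj
  rw [look_get hj] at h1
  obtain ⟨J, h2, h3, h4, h5⟩ := reach_spec (hi.trans_le (Nat.le_of_ble_eq_true h1))
  have h6 := h J h2
  rw [h3, look_get hj] at h6
  exact segOK_spec h6 h4 h5

/-- **The generation at the order `2 ^ 9`.** -/
theorem has9_of {L7 LL : List (List Base)}
    (h7 : ∀ (Q : Type) [Group Q] (z : Q), Nat.card Q = 2 ^ (7 + 1) → z * z = 1 → z ≠ 1 → (∀ y, z * y = y * z) →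
      (∀ g : Q, g * g = 1 ∨ g * g = z) ∨ ∃ l ∈ L7, ∃ T ∈ l, T.Has 7 z)
    (hJ : ∀ l ∈ L7, Dn LL l) (hK : ∀ l ∈ LL, ∀ T ∈ l, ∃ ce, base9OK T ce = true) : Has9 LL := by
  intro A _ hA z z2 z1 hz
  obtain ⟨Q, _, π, h1, h2, h3⟩ := exists_quot (n := 8) hA z2 z1 hz.central
  have : Finite Q := Nat.finite_of_card_ne_zero (by rw [h2]; exact (Nat.two_pow_pos _).ne')
  have h4 : (⊤ : Subgroup Q).lowerCentralSeries 1 ≠ ⊥ := fun h4 => by
    obtain ⟨k, h5, h6, -⟩ := id hz
    have h8 : (⊤ : Subgroup A).lowerCentralSeries 2 = ⊥ := by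
      refine le_bot_iff.1 (Subgroup.commutator_le.2 fun a ha b _ => ?_)
      have h9 : π a ∈ (⊤ : Subgroup Q).lowerCentralSeries 1 :=
        Subgroup.lowerCentralSeries_mono 1 le_top (Subgroup.map_lowerCentralSeries ⊤ π 1 ▸ Subgroup.mem_map_of_mem π ha)
      rw [h4, Subgroup.mem_bot] at h9
      rw [Subgroup.mem_bot, commutatorElement_eq_one_iff_mul_comm]
      rcases h3 a h9 with h10 | h10
      · rw [h10, one_mul, mul_one]
      · rw [h10, hz.central]
    have h9 := Subgroup.lowerCentralSeries_antitone ⊤ h5 h6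
    rw [h8, Subgroup.mem_bot] at h9
    exact z1 h9
  obtain ⟨w, w2, w1, hw⟩ := exists_lz (IsPGroup.of_card h2) h4
  have h5 : ∀ a b : A, π a = π b → a = b ∨ a = b * z := fun a b hab => by
    rcases h3 (b⁻¹ * a) (by rw [map_mul, map_inv, hab, inv_mul_cancel]) with h6 | h6
    · exact Or.inl (inv_mul_eq_one.1 h6).symm
    · exact Or.inr (by rw [← h6, mul_inv_cancel_left])
  rcases h7 Q w h2 w2 w1 hw.central with h6 | ⟨l, hl, U, hU, i, hi, x, hx⟩
  · obtain ⟨c, rfl⟩ := h1 w
    refine Or.inl ⟨c, fun y => h5 _ _ (by rw [map_mul, map_mul, hw.central]), fun g => ?_⟩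
    rcases h6 (π g) with h8 | h8
    · rcases h3 (g * g) (by rw [map_mul, h8]) with h9 | h9
      · exact Or.inl h9
      · exact Or.inr (Or.inl h9)
    · exact Or.inr (Or.inr (h5 _ _ (by rw [map_mul, h8])))
  · obtain ⟨l', hl', T, hT, y, h8, h9⟩ := hJ l hl U hU i hi Q w x hx hw
    obtain ⟨ce, h10⟩ := hK l' hl' T hT
    obtain ⟨t, x', h11, h12⟩ := h8.lift π h1 z2 hz.central h3 h9
    exact Or.inr ⟨l', hl', T, hT, base9OK_spec h10 hA z1 hz h11 h12⟩

end Cfsg.Agent.FS.N.G
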