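import Cfsg.Agent.FS.N.Defs
import Cfsg.Agent.FS.Gen.Iso
import Cfsg.Agent.FS.Th.Shape

/-!
# S5288: the boxes of the list of the groups (helper49, project FS)
-/

set_option autoImplicit false

namespace Cfsg.Agent.FS.N.G

open Cfsg Cfsg.FusionSystem Cfsg.Agent.FS.Th
open Pc (Base)

/-- `z` lies in the last nontrivial term of the lower central series, and the number of this term is at least `k₀` -/
def Lz (k₀ : ℕ) {A : Type} [Group A] (z : A) : Prop :=
  ∃ k, k₀ ≤ k ∧ z ∈ (⊤ : Subgroup A).lowerCentralSeries k ∧ (⊤ : Subgroup A).lowerCentralSeries (k + 1) = ⊥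

/-- the quotient by `⟨z, c⟩` is elementary abelian -/
def Q4 {A : Type} [Group A] (z c : A) : Prop :=
  (∀ y, c * y = y * c ∨ c * y = y * c * z) ∧ ∀ g : A, g * g = 1 ∨ g * g = z ∨ g * g = c ∨ g * g = c * z

/-- the exception of the generation at the order `2 ^ 9` -/
def BoxQ4 : Prop :=
  ∀ (A : Type) [Group A] [Finite A], Nat.card A = 2 ^ 9 → ¬ Cl2 A → ∀ F : Sys A, Hy0 F → ∀ z c : A, z * z = 1 →
    (∀ y, z * y = y * z) → Q4 z c → False

/-- the generation at the order `2 ^ 9` -/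
def Has9 (LL : List (List Base)) : Prop :=
  ∀ (A : Type) [Group A], Nat.card A = 2 ^ 9 → ∀ z : A, z * z = 1 → z ≠ 1 → Lz 2 z →
    (∃ c, Q4 z c) ∨ ∃ l ∈ LL, ∃ T ∈ l, T.Has 8 z

/-- the sweep over the bases of a list: the survivors are in `SS` -/
def Swp (n : ℕ) (SS : List (List Base)) (l : List Base) : Prop :=
  ∀ T ∈ l, ∀ (A : Type) [Group A] [Finite A] (F : Sys A) (z : A) (P : Subgroup A), Hy0 F → LocZ z P ⊥ → T.Has n z →
    ∃ s ∈ SS, ∃ U ∈ s, ∃ y : ℕ → A, Gen.P0 (n + 1) U y

/-- the presentations of a list of bases without tails and with entries of 16 bits -/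
noncomputable def rels (SS : List (List Base)) : List ℕ := SS.flatten.map Base.rel

/-- all members have no tails and entries of 16 bits -/
def W16 (SS : List (List Base)) : Prop := ∀ s ∈ SS, ∀ U ∈ s, U.r = 0 ∧ U.w = 16

end Cfsg.Agent.FS.N.G
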