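import Cfsg.Agent.FS.N.G.Defs

/-!
# The classes where `z` is outside the last term of the lower central series (helper49, project FS)
-/

set_option autoImplicit false

namespace Cfsg.Agent.FS.N.G

open Gen
open Pc (el zp Base Ext)
open scoped commutatorElement

variable {A : Type} [Group A]

theorem Lz.central {k₀ : ℕ} {z : A} (h : Lz k₀ z) (y : A) : z * y = y * z := by
  obtain ⟨k, -, h1, h2⟩ := h
  have h3 : ⁅z, y⁆ ∈ (⊤ : Subgroup A).lowerCentralSeries (k + 1) :=
    Subgroup.commutator_mem_commutator h1 (Subgroup.mem_top y)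
  rw [h2, Subgroup.mem_bot, commutatorElement_eq_one_iff_mul_comm] at h3
  exact h3

theorem exists_lz [Finite A] (hA : IsPGroup 2 A) {k₀ : ℕ} (h : (⊤ : Subgroup A).lowerCentralSeries k₀ ≠ ⊥) :
    ∃ w : A, w * w = 1 ∧ w ≠ 1 ∧ Lz k₀ w := by
  classical
  have : Fact (Nat.Prime 2) := ⟨Nat.prime_two⟩
  have h1 : ∃ n, (⊤ : Subgroup A).lowerCentralSeries n = ⊥ := Subgroup.nilpotent_iff_lowerCentralSeries.1 hA.isNilpotent
  have h2 : k₀ < Nat.find h1 := by
    by_contra h2
    exact h (le_bot_iff.1 ((Subgroup.lowerCentralSeries_antitone ⊤ (not_lt.1 h2)).trans (Nat.find_spec h1).le))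
  obtain ⟨k, hk⟩ : ∃ k, Nat.find h1 = k + 1 := ⟨Nat.find h1 - 1, by omega⟩
  have h3 : (⊤ : Subgroup A).lowerCentralSeries k ≠ ⊥ := Nat.find_min h1 (by omega)
  have h4 := Nat.find_spec h1
  rw [hk] at h4
  have : Nontrivial ((⊤ : Subgroup A).lowerCentralSeries k) := (Subgroup.nontrivial_iff_ne_bot _).2 h3
  obtain ⟨m, hm, h5⟩ := (hA.to_subgroup ((⊤ : Subgroup A).lowerCentralSeries k)).nontrivial_iff_card.1 inferInstance
  obtain ⟨w, hw⟩ := exists_prime_orderOf_dvd_card' (G := (⊤ : Subgroup A).lowerCentralSeries k) 2 (by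
    rw [h5]
    exact dvd_pow_self 2 hm.ne')
  refine ⟨w, ?_, fun h6 => ?_, k, by omega, w.2, h4⟩
  · have h6 := pow_orderOf_eq_one w
    rw [hw, pow_two] at h6
    exact congrArg Subtype.val h6
  · rw [show w = 1 from Subtype.ext h6, orderOf_one] at hw
    cases hw

/-- one step of a central series -/
theorem comm_le {B X Y : Set A} (hB : ∀ H : Submonoid A, (∀ b ∈ B, b ∈ H) → ∀ g, g ∈ H) (hXY : Y ⊆ X)
    (h : ∀ a ∈ X, ∀ b ∈ B, a⁻¹ * (b⁻¹ * a * b) ∈ Subgroup.closure Y) :
    ⁅Subgroup.closure X, (⊤ : Subgroup A)⁆ ≤ Subgroup.closure Y := by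
  have h1 : ∀ g : A, ∀ y ∈ Subgroup.closure Y, g⁻¹ * y * g ∈ Subgroup.closure Y := fun g => by
    let H : Submonoid A :=
      { carrier := {g | ∀ y ∈ Subgroup.closure Y, g⁻¹ * y * g ∈ Subgroup.closure Y}
        one_mem' := fun y hy => by simpa using hy
        mul_mem' := fun {a b} ha hb y hy => by
          have h2 := hb _ (ha y hy)
          rwa [show b⁻¹ * (a⁻¹ * y * a) * b = (a * b)⁻¹ * y * (a * b) by group] at h2 }
    refine hB H (fun b hb y hy => ?_) g
    have h2 : Subgroup.closure Y ≤ (Subgroup.closure Y).comap (MulAut.conj b⁻¹).toMonoidHom :=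
      (Subgroup.closure_le _).2 fun a ha => by
        have h3 := (Subgroup.closure Y).mul_mem (Subgroup.subset_closure ha) (h a (hXY ha) b hb)
        rw [mul_inv_cancel_left] at h3
        simpa using h3
    simpa using h2 hy
  have : (Subgroup.closure Y).Normal := ⟨fun y hy g => by simpa using h1 g⁻¹ y hy⟩
  have h2 : Subgroup.closure X ≤ (Subgroup.center (A ⧸ Subgroup.closure Y)).comap (QuotientGroup.mk' _) :=
    (Subgroup.closure_le _).2 fun a ha => by
      refine Subgroup.mem_center_iff.2 fun q => ?_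
      obtain ⟨g, rfl⟩ := QuotientGroup.mk'_surjective _ q
      refine (hB ((Submonoid.centralizer {QuotientGroup.mk' (Subgroup.closure Y) a}).comap
        (QuotientGroup.mk' (Subgroup.closure Y))) (fun b hb => ?_) g _ rfl).symm
      rintro _ rfl
      rw [← map_mul, ← map_mul]
      refine (QuotientGroup.eq.2 ?_).symm
      have h3 := h a ha b hb
      rwa [show a⁻¹ * (b⁻¹ * a * b) = (b * a)⁻¹ * (a * b) by group] at h3
  refine Subgroup.commutator_le.2 fun a ha b _ => ?_
  rw [← QuotientGroup.eq_one_iff, ← QuotientGroup.mk'_apply, map_commutatorElement,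
    commutatorElement_eq_one_iff_mul_comm]
  exact (Subgroup.mem_center_iff.1 (h2 ha) _).symm

theorem el_mem_lt {x : ℕ → A} {N : Subgroup A} {u b : ℕ} (hu : u < 2 ^ b) (h : ∀ j, j < b → x j ∈ N) :
    ∀ n, el x n u ∈ N
  | 0 => N.one_mem
  | n + 1 => by
    rw [Pc.el_succ]
    refine N.mul_mem ?_ (el_mem_lt hu h n)
    cases h1 : u.testBit n
    · exact N.one_mem
    · refine h n ?_
      by_contra h2
      rw [Nat.testBit_lt_two_pow (hu.trans_le (Nat.pow_le_pow_right (by norm_num) (not_lt.1 h2)))] at h1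
      cases h1

/-- The relations respect the filtration by the numbers `gt 4 th i`; the tails below `t` do not occur in the relations
of the last step. -/
noncomputable def filtOK (n r w P K th t : ℕ) : Bool :=
  band (Nat.blt 0 K) (band (Nat.beq (gt 4 th 0) n)
    (band (allB K fun i => frc (gt 4 th i) fun a => frc (gt 4 th (Nat.succ i)) fun b => band (Nat.ble b a)
        (allB n fun k => allB k fun j => Bool.rec (motive := fun _ => Bool) true
          (Nat.blt (Nat.xor (topf r w P k j) (Nat.pow 2 j)) (Nat.pow 2 b)) (Nat.blt j a)))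
      (band (frc (gt 4 th (Nat.pred K)) fun a => allB n fun k => allB k fun j => Bool.rec (motive := fun _ => Bool) true
          (Nat.beq (low t (relf r w P k j)) 0) (Nat.blt j a))
        (allB (gt 4 th K) fun k => Nat.beq (low t (relf r w P k k)) 0))))

theorem dot_false {r t c v : ℕ} (hc : ∀ i, t ≤ i → i < r → c.testBit i = false) (hv : low t v = 0) : dot r v c = false := by
  rw [← dot_zero_left r 0]
  refine par_congr r fun i hi => ?_
  rw [Nat.testBit_and, Nat.testBit_and, Nat.zero_testBit, Bool.false_and]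
  by_cases h : i < t
  · have h1 := congrArg (fun a => Nat.testBit a i) hv
    simp only [low_eq, Nat.testBit_mod_two_pow, decide_eq_true h, Bool.true_and, Nat.zero_testBit] at h1
    rw [h1, Bool.false_and]
  · rw [hc i (not_lt.1 h) hi, Bool.and_false]

theorem imp_spec {a j : ℕ} {b : Bool} (h : Bool.rec (motive := fun _ => Bool) true b (Nat.blt j a) = true) (hj : j < a) :
    b = true := by
  rwa [show Nat.blt j a = true from Eq.mpr Nat.blt_eq hj] at h

theorem filt_spec {n r w P K th t c : ℕ} (h : filtOK n r w P K th t = true) {z : A} {x : ℕ → A}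
    (hx : Ext z x c r n w P) (hc : ∀ i, t ≤ i → i < r → c.testBit i = false) :
    z ∉ (⊤ : Subgroup A).lowerCentralSeries K := by
  have := hx.finite
  obtain ⟨h1, h2⟩ := Ext.rel hx
  obtain ⟨a0, h⟩ := band_spec h
  obtain ⟨a1, h⟩ := band_spec h
  obtain ⟨a2, h⟩ := band_spec h
  obtain ⟨a3, a4⟩ := band_spec h
  have hK := blt_lt a0
  have m0 := Nat.eq_of_beq_eq_true a1
  rw [frc_eq] at a3
  have b1 : ∀ i, i < K → gt 4 th (i + 1) ≤ gt 4 th i ∧ ∀ k, k < n → ∀ j, j < k → j < gt 4 th i →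
      topf r w P k j ^^^ 2 ^ j < 2 ^ gt 4 th (i + 1) := fun i hi => by
    have h3 := allB_spec a2 i hi
    rw [frc_eq, frc_eq] at h3
    obtain ⟨h4, h5⟩ := band_spec h3
    exact ⟨Nat.le_of_ble_eq_true h4, fun k hk j hj h6 => blt_lt (imp_spec (allB_spec (allB_spec h5 k hk) j hj) h6)⟩
  have b2 : ∀ k, k < n → ∀ j, j < k → j < gt 4 th (K - 1) → dot r (relf r w P k j) c = false := fun k hk j hj h6 =>
    dot_false hc (Nat.eq_of_beq_eq_true (imp_spec (allB_spec (allB_spec a3 k hk) j hj) h6))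
  have b3 : ∀ k, k < gt 4 th K → dot r (relf r w P k k) c = false := fun k hk =>
    dot_false hc (Nat.eq_of_beq_eq_true (allB_spec a4 k hk))
  have b4 : ∀ i, i ≤ K → gt 4 th i ≤ n := fun i hi => by
    induction i with
    | zero => exact m0.le
    | succ i ih => exact (b1 i hi).1.trans (ih (by omega))
  let X : Bool → ℕ → Set A := fun e i => {y | y = zp z e ∨ ∃ j, j < gt 4 th i ∧ y = x j}
  have hB : ∀ H : Submonoid A, (∀ b ∈ X true 0, b ∈ H) → ∀ g, g ∈ H := fun H hH =>
    h2 H (hH _ (Or.inl rfl)) fun k hk => hH _ (Or.inr ⟨k, m0.symm ▸ hk, rfl⟩)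
  have step : ∀ i, i < K → ∀ e, (e = true ∨ i + 1 = K) →
      ⁅Subgroup.closure (X true i), (⊤ : Subgroup A)⁆ ≤ Subgroup.closure (X e (i + 1)) := fun i hi e he => by
    have c1 : ∀ k, k < n → ∀ j, j < k → j < gt 4 th i →
        (x j)⁻¹ * ((x k)⁻¹ * x j * x k) ∈ Subgroup.closure (X e (i + 1)) := fun k hk j hj h3 => by
      have c2 : ∀ j, j < gt 4 th (i + 1) → x j ∈ Subgroup.closure (X e (i + 1)) := fun j hj =>
        Subgroup.subset_closure (Or.inr ⟨j, hj, rfl⟩)
      rw [mul_assoc (x k)⁻¹, h1.cj k hk j hj, inv_mul_cancel_left]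
      unfold ev
      rw [← mul_assoc]
      refine Subgroup.mul_mem _ ?_ ?_
      · have h4 := (b1 i hi).2 k hk j hj h3
        by_cases h5 : j < gt 4 th (i + 1)
        · refine Subgroup.mul_mem _ (Subgroup.inv_mem _ (c2 j h5)) (el_mem_lt (b := gt 4 th (i + 1)) ?_ c2 n)
          have h6 := Nat.xor_lt_two_pow h4 (Nat.pow_lt_pow_right (by norm_num) h5)
          rwa [Nat.xor_assoc, Nat.xor_self, Nat.xor_zero] at h6
        · have h6 := el_top' x (hj.trans hk) (h4.trans_le (Nat.pow_le_pow_right (by norm_num) (not_lt.1 h5)))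
          rw [Nat.xor_assoc, Nat.xor_self, Nat.xor_zero] at h6
          rw [show relf r w P k j >>> r = topf r w P k j from rfl, h6, inv_mul_cancel_left]
          exact el_mem_lt h4 c2 n
      · rcases he with rfl | he
        · cases dot r (relf r w P k j) c
          · exact Subgroup.one_mem _
          · exact Subgroup.subset_closure (Or.inl rfl)
        · rw [b2 k hk j hj (by rwa [show K - 1 = i by omega])]
          exact Subgroup.one_mem _
    have c3 : ⁅Subgroup.closure (X true i ∪ {1}), (⊤ : Subgroup A)⁆ ≤ Subgroup.closure (X e (i + 1)) := by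
      refine comm_le hB ?_ ?_
      · rintro _ (rfl | ⟨j, hj, rfl⟩)
        · cases e
          · exact Or.inr rfl
          · exact Or.inl (Or.inl rfl)
        · exact Or.inl (Or.inr ⟨j, hj.trans_le (b1 i hi).1, rfl⟩)
      · rintro a ((ha | ⟨j, hj, rfl⟩) | rfl) b hb
        · rw [ha, mul_assoc b⁻¹, h1.zp_comm, inv_mul_cancel_left, inv_mul_cancel]
          exact Subgroup.one_mem _
        · rcases hb with hb | ⟨k, hk, rfl⟩
          · rw [hb, mul_assoc, ← h1.zp_comm, inv_mul_cancel_left, inv_mul_cancel]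
            exact Subgroup.one_mem _
          · rcases Nat.lt_trichotomy j k with h3 | h3 | h3
            · exact c1 k (m0 ▸ hk) j h3 hj
            · rw [h3, inv_mul_cancel, one_mul, inv_mul_cancel]
              exact Subgroup.one_mem _
            · have h4 := Subgroup.inv_mem _ (c1 j (hj.trans_le (b4 i hi.le)) k h3 (h3.trans hj))
              rwa [show ((x k)⁻¹ * ((x j)⁻¹ * x k * x j))⁻¹ = (x j)⁻¹ * ((x k)⁻¹ * x j * x k) by group] at h4
        · simp
    exact (Subgroup.commutator_mono (Subgroup.closure_mono Set.subset_union_left) le_rfl).trans c3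
  have c4 : ∀ i, i < K → (⊤ : Subgroup A).lowerCentralSeries i ≤ Subgroup.closure (X true i) := fun i hi => by
    induction i with
    | zero => exact fun g _ => hB (Subgroup.closure (X true 0)).toSubmonoid (fun b hb => Subgroup.subset_closure hb) g
    | succ i ih => exact (Subgroup.commutator_mono (ih (by omega)) le_rfl).trans (step i (by omega) true (Or.inl rfl))
  obtain ⟨J, rfl⟩ : ∃ J, K = J + 1 := ⟨K - 1, by omega⟩
  have c5 : (⊤ : Subgroup A).lowerCentralSeries (J + 1) ≤ Subgroup.closure (X false (J + 1)) :=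
    (Subgroup.commutator_mono (c4 J (by omega)) le_rfl).trans (step J (by omega) false (Or.inr rfl))
  have d0 := b4 (J + 1) le_rfl
  have d1 := (b1 J (by omega)).1
  generalize hb : gt 4 th (J + 1) = b at d0 d1 b3
  have d2 : ∀ k, k < b → ∀ j, dot r (relf r w P k j) c = false →
      ev r n c z x (relf r w P k j) = ev 0 b 0 1 x (topf r w P k j) := fun k hk j h3 => by
    have h4 : topf r w P k j < 2 ^ k := shiftRight_lt (low_lt (r + k) _)
    rw [ev_zero, Pc.el_of_lt x h4 hk.le, ← Pc.el_of_lt x h4 (hk.le.trans d0)]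
    unfold ev
    rw [h3]
    exact mul_one _
  have d3 : Rel 0 b (topf r w P) 0 1 x := ⟨mul_one _, fun y => (one_mul y).trans (mul_one y).symm,
    fun k hk => by rw [h1.pw k (by omega), d2 k hk k (b3 k hk)],
    fun k hk j hj => by rw [h1.cj k (by omega) j hj, d2 k hk j (b2 k (by omega) j hj (by show j < gt 4 th J; omega))]⟩
  have hm := d3.mu (topf_bd r b w P)
  let H : Submonoid A :=
    { carrier := {y | ∃ a, a < 2 ^ (0 + b) ∧ y = ev 0 b 0 1 x a}
      one_mem' := ⟨0, Nat.two_pow_pos _, by rw [ev_zero, Pc.el_nil]⟩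
      mul_mem' := by
        rintro _ _ ⟨a, ha, rfl⟩ ⟨a', ha', rfl⟩
        exact ⟨_, (hm a ha a' ha').1, (hm a ha a' ha').2⟩ }
  let H' : Subgroup A :=
    { H with
      inv_mem' := fun {y} hy => by
        have h3 : y⁻¹ = y ^ (orderOf y - 1) := by
          rw [inv_eq_iff_mul_eq_one, ← pow_succ', Nat.sub_add_cancel (orderOf_pos y), pow_orderOf_eq_one]
        rw [h3]
        exact H.pow_mem hy _ }
  have d4 : Subgroup.closure (X false (J + 1)) ≤ H' := (Subgroup.closure_le _).2 (by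
    rintro _ (rfl | ⟨j, hj, rfl⟩)
    · exact H'.one_mem
    · rw [hb] at hj
      exact ⟨2 ^ (0 + j), Nat.pow_lt_pow_right (by norm_num) (by omega), (ev_gen 0 hj 0 1 x).symm⟩)
  intro hz
  obtain ⟨a, ha, h3⟩ := d4 (c5 hz)
  rw [Nat.zero_add] at ha
  rw [ev_zero, ← Pc.el_of_lt x ha d0] at h3
  have h4 := (hx.inj (Nat.two_pow_pos n) (ha.trans_le (Nat.pow_le_pow_right (by norm_num) d0)) (e := true) (f := false)
    (by rw [Pc.el_nil, one_mul, ← h3]; exact (mul_one _).symm)).2
  cases h4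

/-- a chain of commutators of length `K` which ends outside the tails -/
noncomputable def witOK (m : ℕ → ℕ → ℕ) (r wp K ys bs : ℕ) : Bool :=
  band (allB K fun i => frc (gt wp ys i) fun y => frc (gt wp bs i) fun b =>
      Nat.blt (Nat.xor (m (m b y) (gt wp ys (Nat.succ i))) (m y b)) (Nat.pow 2 r))
    (Nat.ble (Nat.pow 2 r) (gt wp ys K))

theorem wit_spec {r n c K ys bs : ℕ} {R : ℕ → ℕ → ℕ} {z : A} {x : ℕ → A} (h1 : Rel r n R c z x) (hb : Bd r n R)
    {m : ℕ → ℕ → ℕ} (hm : Mu (r + n) (ev r n c z x) m) (h : witOK m r (r + n) K ys bs = true)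
    (hi : ∀ a, a < 2 ^ n → ∀ e, el x n a * zp z e = 1 → a = 0) : (⊤ : Subgroup A).lowerCentralSeries K ≠ ⊥ := by
  obtain ⟨a1, a2⟩ := band_spec h
  have he := h1.toEv hb
  have c1 : ∀ i, i ≤ K → ∃ e, ev r n c z x (gt (r + n) ys i) * zp z e ∈ (⊤ : Subgroup A).lowerCentralSeries i :=
    fun i hi => by
      induction i with
      | zero => exact ⟨false, Subgroup.mem_top _⟩
      | succ i ih =>
        obtain ⟨e, h2⟩ := ih (by omega)
        have h3 := allB_spec a1 i hi
        rw [frc_eq, frc_eq] at h3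
        have h4 := blt_lt h3
        have y1 := gt_lt (r + n) ys i
        have y2 := gt_lt (r + n) bs i
        have h5 := he.tail _ h4 (m (m (gt (r + n) bs i) (gt (r + n) ys i)) (gt (r + n) ys (i + 1)))
        rw [ev_tail h4] at h5
        erw [← Nat.xor_assoc, Nat.xor_self, Nat.zero_xor] at h5
        rw [← (hm _ y1 _ y2).2, ← (hm _ (hm _ y2 _ y1).1 _ (gt_lt _ _ _)).2, ← (hm _ y2 _ y1).2] at h5
        have h6 := Subgroup.commutator_mem_commutator (Subgroup.inv_mem _ h2)
          (Subgroup.mem_top (ev r n c z x (gt (r + n) bs i))⁻¹)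
        generalize ev r n c z x (gt (r + n) ys i) = Y, ev r n c z x (gt (r + n) bs i) = B at h5 h6
        have h7 : ⁅(Y * zp z e)⁻¹, B⁻¹⁆ = Y⁻¹ * B⁻¹ * (Y * B) := by
          calc _ = (zp z e)⁻¹ * (Y⁻¹ * B⁻¹ * Y * zp z e) * B := by rw [commutatorElement_def]; group
            _ = _ := by rw [← h1.zp_comm e]; group
        rw [h7, h5, show ∀ U V : A, Y⁻¹ * B⁻¹ * (B * Y * U * V) = U * V from fun U V => by group] at h6
        exact ⟨_, h6⟩
  intro h2
  obtain ⟨e, h3⟩ := c1 K le_rfl
  rw [h2, Subgroup.mem_bot] at h3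
  unfold ev at h3
  rw [mul_assoc, ← Pc.zp_xor h1.z2] at h3
  have h4 := hi _ (shiftRight_lt (gt_lt _ _ _)) _ h3
  have h5 : 2 ^ r ≤ gt (r + n) ys K := Nat.le_of_ble_eq_true a2
  rw [Nat.shiftRight_eq_div_pow] at h4
  have h6 := Nat.div_pos h5 (Nat.two_pow_pos r)
  omega

theorem ext_inj {z : A} {x : ℕ → A} {c r n w P : ℕ} (hx : Ext z x c r n w P) (a : ℕ) (ha : a < 2 ^ n) (e : Bool)
    (h : el x n a * zp z e = 1) : a = 0 :=
  (hx.inj ha (Nat.two_pow_pos n) (f := false) (by rw [h, Pc.el_nil]; exact (mul_one _).symm)).1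

theorem not_lz {k₀ K : ℕ} {z : A} (h1 : z ∉ (⊤ : Subgroup A).lowerCentralSeries K)
    (h2 : K ≤ k₀ ∨ (⊤ : Subgroup A).lowerCentralSeries K ≠ ⊥) : ¬ Lz k₀ z := by
  rintro ⟨k, h3, h4, h5⟩
  by_cases h6 : K ≤ k
  · exact h1 (Subgroup.lowerCentralSeries_antitone ⊤ h6 h4)
  · rcases h2 with h2 | h2
    · omega
    · exact h2 (le_bot_iff.1 ((Subgroup.lowerCentralSeries_antitone ⊤ (show k + 1 ≤ K by omega)).trans h5.le))

end Cfsg.Agent.FS.N.G
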