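import Cfsg.Agent.FS.N.G.L8
import Cfsg.Agent.FS.N.G.K.K00
import Cfsg.Agent.FS.N.G.K.K01
import Cfsg.Agent.FS.N.G.K.K02
import Cfsg.Agent.FS.N.G.K.K03
import Cfsg.Agent.FS.N.G.K.K04
import Cfsg.Agent.FS.N.G.K.K05
import Cfsg.Agent.FS.N.G.K.K06
import Cfsg.Agent.FS.N.G.K.K07
import Cfsg.Agent.FS.N.G.K.K08
import Cfsg.Agent.FS.N.G.K.K09
import Cfsg.Agent.FS.N.G.K.K10
import Cfsg.Agent.FS.N.G.K.K11
import Cfsg.Agent.FS.N.G.K.K12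
import Cfsg.Agent.FS.N.G.K.K13
import Cfsg.Agent.FS.N.G.K.K14
import Cfsg.Agent.FS.N.G.K.K15
import Cfsg.Agent.FS.N.G.K.K16
import Cfsg.Agent.FS.N.G.K.K17
import Cfsg.Agent.FS.N.G.K.K18
import Cfsg.Agent.FS.N.G.K.K19
import Cfsg.Agent.FS.N.G.K.K20
import Cfsg.Agent.FS.N.G.K.K21
import Cfsg.Agent.FS.N.G.K.K22
import Cfsg.Agent.FS.N.G.K.K23
import Cfsg.Agent.FS.N.G.K.K24
import Cfsg.Agent.FS.N.G.K.K25
import Cfsg.Agent.FS.N.G.K.K26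
import Cfsg.Agent.FS.N.G.K.K27
import Cfsg.Agent.FS.N.G.K.K28
import Cfsg.Agent.FS.N.G.K.K29
import Cfsg.Agent.FS.N.G.K.K30
import Cfsg.Agent.FS.N.G.K.K31
import Cfsg.Agent.FS.N.G.K.K32
import Cfsg.Agent.FS.N.G.K.K33
import Cfsg.Agent.FS.N.G.K.K34
import Cfsg.Agent.FS.N.G.K.K35

/-! The extensions of the groups of order 256 (generated; helper49, project FS) -/

set_option autoImplicit false
set_option maxRecDepth 100000
set_option Elab.async false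

namespace Cfsg.Agent.FS.N.G

open Gen

theorem k8 : ∀ l ∈ L8, KK l :=
  fa_cons k8_0 <|
  fa_cons k8_1 <|
  fa_cons k8_2 <|
  fa_cons k8_3 <|
  fa_cons k8_4 <|
  fa_cons k8_5 <|
  fa_cons k8_6 <|
  fa_cons k8_7 <|
  fa_cons k8_8 <|
  fa_cons k8_9 <|
  fa_cons k8_10 <|
  fa_cons k8_11 <|
  fa_cons k8_12 <|
  fa_cons k8_13 <|
  fa_cons k8_14 <|
  fa_cons k8_15 <|
  fa_cons k8_16 <|
  fa_cons k8_17 <|
  fa_cons k8_18 <|
  fa_cons k8_19 <|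
  fa_cons k8_20 <|
  fa_cons k8_21 <|
  fa_cons k8_22 <|
  fa_cons k8_23 <|
  fa_cons k8_24 <|
  fa_cons k8_25 <|
  fa_cons k8_26 <|
  fa_cons k8_27 <|
  fa_cons k8_28 <|
  fa_cons k8_29 <|
  fa_cons k8_30 <|
  fa_cons k8_31 <|
  fa_cons k8_32 <|
  fa_cons k8_33 <|
  fa_cons k8_34 <|
  fa_cons k8_35 <|
  fa_cons k8_36 <|
  fa_cons k8_37 <|
  fa_cons k8_38 <|
  fa_cons k8_39 <|
  fa_cons k8_40 <|
  fa_cons k8_41 <|
  fa_cons k8_42 <|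
  fa_cons k8_43 <|
  fa_cons k8_44 <|
  fa_cons k8_45 <|
  fa_cons k8_46 <|
  fa_cons k8_47 <|
  fa_cons k8_48 <|
  fa_cons k8_49 <|
  fa_cons k8_50 <|
  fa_cons k8_51 <|
  fa_cons k8_52 <|
  fa_cons k8_53 <|
  fa_cons k8_54 <|
  fa_cons k8_55 <|
  fa_cons k8_56 <|
  fa_cons k8_57 <|
  fa_cons k8_58 <|
  fa_cons k8_59 <|
  fa_cons k8_60 <|
  fa_cons k8_61 <|
  fa_cons k8_62 <|
  fa_cons k8_63 <|
  fa_cons k8_64 <|
  fa_cons k8_65 <|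
  fa_cons k8_66 <|
  fa_cons k8_67 <|
  fa_cons k8_68 <|
  fa_cons k8_69 <|
  fa_cons k8_70 <|
  fa_cons k8_71 <|
  fa_cons k8_72 <|
  fa_cons k8_73 <|
  fa_cons k8_74 <|
  fa_cons k8_75 <|
  fa_cons k8_76 <|
  fa_cons k8_77 <|
  fa_cons k8_78 <|
  fa_cons k8_79 <|
  fa_cons k8_80 <|
  fa_cons k8_81 <|
  fa_cons k8_82 <|
  fa_cons k8_83 <|
  fa_cons k8_84 <|
  fa_cons k8_85 <|
  fa_cons k8_86 <|
  fa_cons k8_87 <|
  fa_cons k8_88 <|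
  fa_cons k8_89 <|
  fa_cons k8_90 <|
  fa_cons k8_91 <|
  fa_cons k8_92 <|
  fa_cons k8_93 <|
  fa_cons k8_94 <|
  fa_cons k8_95 <|
  fa_cons k8_96 <|
  fa_cons k8_97 <|
  fa_cons k8_98 <|
  fa_cons k8_99 <|
  fa_cons k8_100 <|
  fa_cons k8_101 <|
  fa_cons k8_102 <|
  fa_cons k8_103 <|
  fa_cons k8_104 <|
  fa_cons k8_105 <|
  fa_cons k8_106 <|
  fa_cons k8_107 <|
  fa_cons k8_108 <|
  fa_cons k8_109 <|
  fa_cons k8_110 <|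
  fa_cons k8_111 <|
  fa_cons k8_112 <|
  fa_cons k8_113 <|
  fa_cons k8_114 <|
  fa_cons k8_115 <|
  fa_cons k8_116 <|
  fa_cons k8_117 <|
  fa_cons k8_118 <|
  fa_cons k8_119 <|
  fa_cons k8_120 <|
  fa_cons k8_121 <|
  fa_cons k8_122 <|
  fa_cons k8_123 <|
  fa_cons k8_124 <|
  fa_cons k8_125 <|
  fa_cons k8_126 <|
  fa_cons k8_127 <|
  fa_cons k8_128 <|
  fa_cons k8_129 <|
  fa_cons k8_130 <|
  fa_cons k8_131 <|
  fa_cons k8_132 <|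
  fa_cons k8_133 <|
  fa_cons k8_134 <|
  fa_cons k8_135 <|
  fa_cons k8_136 <|
  fa_cons k8_137 <|
  fa_cons k8_138 <|
  fa_cons k8_139 <|
  fa_cons k8_140 <|
  fa_cons k8_141 <|
  fa_cons k8_142 <|
  fa_cons k8_143 <|
  fa_cons k8_144 <|
  fa_cons k8_145 <|
  fa_cons k8_146 <|
  fa_cons k8_147 <|
  fa_cons k8_148 <|
  fa_cons k8_149 <|
  fa_cons k8_150 <|
  fa_cons k8_151 <|
  fa_cons k8_152 <|
  fa_cons k8_153 <|
  fa_cons k8_154 <|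
  fa_cons k8_155 <|
  fa_cons k8_156 <|
  fa_cons k8_157 <|
  fa_cons k8_158 <|
  fa_cons k8_159 <|
  fa_cons k8_160 <|
  fa_cons k8_161 <|
  fa_cons k8_162 <|
  fa_cons k8_163 <|
  fa_cons k8_164 <|
  fa_cons k8_165 <|
  fa_cons k8_166 <|
  fa_cons k8_167 <|
  fa_cons k8_168 <|
  fa_cons k8_169 <|
  fa_cons k8_170 <|
  fa_cons k8_171 <|
  fa_cons k8_172 <|
  fa_cons k8_173 <|
  fa_cons k8_174 <|
  fa_cons k8_175 <|
  fa_cons k8_176 <|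
  fa_cons k8_177 <|
  fa_cons k8_178 <|
  fa_cons k8_179 <|
  fa_cons k8_180 <|
  fa_cons k8_181 <|
  fa_cons k8_182 <|
  fa_cons k8_183 <|
  fa_cons k8_184 <|
  fa_cons k8_185 <|
  fa_cons k8_186 <|
  fa_cons k8_187 <|
  fa_cons k8_188 <|
  fa_cons k8_189 <|
  fa_cons k8_190 <|
  fa_cons k8_191 <|
  fa_cons k8_192 <|
  fa_cons k8_193 <|
  fa_cons k8_194 <|
  fa_cons k8_195 <|
  fa_cons k8_196 <|
  fa_cons k8_197 <|
  fa_cons k8_198 <|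
  fa_cons k8_199 <|
  fa_cons k8_200 <|
  fa_cons k8_201 <|
  fa_cons k8_202 <|
  fa_cons k8_203 <|
  fa_cons k8_204 <|
  fa_cons k8_205 <|
  fa_cons k8_206 <|
  fa_cons k8_207 <|
  fa_cons k8_208 <|
  fa_cons k8_209 <|
  fa_cons k8_210 <|
  fa_cons k8_211 <|
  fa_cons k8_212 <|
  fa_cons k8_213 <|
  fa_cons k8_214 <|
  fa_cons k8_215 <|
  fa_cons k8_216 <|
  fa_cons k8_217 <|
  fa_cons k8_218 <|
  fa_cons k8_219 <|
  fa_cons k8_220 <|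
  fa_cons k8_221 <|
  fa_cons k8_222 <|
  fa_cons k8_223 <|
  fa_cons k8_224 <|
  fa_cons k8_225 <|
  fa_cons k8_226 <|
  fa_cons k8_227 <|
  fa_cons k8_228 <|
  fa_cons k8_229 <|
  fa_cons k8_230 <|
  fa_cons k8_231 <|
  fa_cons k8_232 <|
  fa_cons k8_233 <|
  fa_cons k8_234 <|
  fa_cons k8_235 <|
  fa_cons k8_236 <|
  fa_cons k8_237 <|
  fa_cons k8_238 <|
  fa_cons k8_239 <|
  fa_cons k8_240 <|
  fa_cons k8_241 <|
  fa_cons k8_242 <|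
  fa_cons k8_243 <|
  fa_cons k8_244 <|
  fa_cons k8_245 <|
  fa_cons k8_246 <|
  fa_cons k8_247 <|
  fa_cons k8_248 <|
  fa_cons k8_249 <|
  fa_cons k8_250 <|
  fa_cons k8_251 <|
  fa_cons k8_252 <|
  fa_cons k8_253 <|
  fa_cons k8_254 <|
  fa_cons k8_255 <|
  fa_cons k8_256 <|
  fa_cons k8_257 <|
  fa_cons k8_258 <|
  fa_cons k8_259 <|
  fa_cons k8_260 <|
  fa_cons k8_261 <|
  fa_cons k8_262 <|
  fa_cons k8_263 <|
  fa_cons k8_264 <|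
  fa_cons k8_265 <|
  fa_cons k8_266 <|
  fa_cons k8_267 <|
  fa_cons k8_268 <|
  fa_cons k8_269 <|
  fa_cons k8_270 <|
  fa_cons k8_271 <|
  fa_cons k8_272 <|
  fa_cons k8_273 <|
  fa_cons k8_274 <|
  fa_cons k8_275 <|
  fa_cons k8_276 <|
  fa_cons k8_277 <|
  fa_cons k8_278 <|
  fa_cons k8_279 <|
  fa_cons k8_280 <|
  fa_cons k8_281 <|
  fa_cons k8_282 <|
  fa_cons k8_283 <|
  fa_cons k8_284 <|
  fa_cons k8_285 <|
  fa_cons k8_286 <|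
  fa_cons k8_287 <|
  fa_cons k8_288 <|
  fa_cons k8_289 <|
  fa_cons k8_290 <|
  fa_cons k8_291 <|
  fa_cons k8_292 <|
  fa_cons k8_293 <|
  fa_cons k8_294 <|
  fa_cons k8_295 <|
  fa_cons k8_296 <|
  fa_cons k8_297 <|
  fa_cons k8_298 <|
  fa_cons k8_299 <|
  fa_cons k8_300 <|
  fa_cons k8_301 <|
  fa_cons k8_302 <|
  fa_cons k8_303 <|
  fa_cons k8_304 <|
  fa_cons k8_305 <|
  fa_cons k8_306 <|
  fa_cons k8_307 <|
  fa_cons k8_308 <|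
  fa_cons k8_309 <|
  fa_cons k8_310 <|
  fa_cons k8_311 <|
  fa_cons k8_312 <|
  fa_cons k8_313 <|
  fa_cons k8_314 <|
  fa_cons k8_315 <|
  fa_cons k8_316 <|
  fa_cons k8_317 <|
  fa_cons k8_318 <|
  fa_cons k8_319 <|
  fa_cons k8_320 <|
  fa_cons k8_321 <|
  fa_cons k8_322 <|
  fa_cons k8_323 <|
  fa_cons k8_324 <|
  fa_cons k8_325 <|
  fa_cons k8_326 <|
  fa_cons k8_327 <|
  fa_cons k8_328 <|
  fa_cons k8_329 <|
  fa_cons k8_330 <|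
  fa_cons k8_331 <|
  fa_cons k8_332 <|
  fa_cons k8_333 <|
  fa_cons k8_334 <|
  fa_cons k8_335 <|
  fa_cons k8_336 <|
  fa_cons k8_337 <|
  fa_cons k8_338 <|
  fa_cons k8_339 <|
  fa_cons k8_340 <|
  fa_cons k8_341 <|
  fa_cons k8_342 <|
  fa_cons k8_343 <|
  fa_cons k8_344 <|
  fa_cons k8_345 <|
  fa_cons k8_346 <|
  fa_cons k8_347 <|
  fa_cons k8_348 <|
  fa_cons k8_349 <|
  fa_cons k8_350 <|
  fa_cons k8_351 <|
  fa_cons k8_352 <|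
  fa_cons k8_353 <|
  fa_cons k8_354 <|
  fa_cons k8_355 <|
  fa_cons k8_356 <|
  fa_cons k8_357 <|
  fa_cons k8_358 <|
  fa_cons k8_359 <|
  fa_cons k8_360 <|
  fa_cons k8_361 <|
  fa_cons k8_362 <|
  fa_cons k8_363 <|
  fa_cons k8_364 <|
  fa_cons k8_365 <|
  fa_cons k8_366 <|
  fa_cons k8_367 <|
  fa_cons k8_368 <|
  fa_cons k8_369 <|
  fa_cons k8_370 <|
  fa_cons k8_371 <|
  fa_cons k8_372 <|
  fa_cons k8_373 <|
  fa_cons k8_374 <|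
  fa_cons k8_375 <|
  fa_cons k8_376 <|
  fa_cons k8_377 <|
  fa_cons k8_378 <|
  fa_cons k8_379 <|
  fa_cons k8_380 <|
  fa_cons k8_381 <|
  fa_cons k8_382 <|
  fa_cons k8_383 <|
  fa_cons k8_384 <|
  fa_cons k8_385 <|
  fa_cons k8_386 <|
  fa_cons k8_387 <|
  fa_cons k8_388 <|
  fa_cons k8_389 <|
  fa_cons k8_390 <|
  fa_cons k8_391 <|
  fa_cons k8_392 <|
  fa_cons k8_393 <|
  fa_cons k8_394 <|
  fa_cons k8_395 <|
  fa_cons k8_396 <|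
  fa_cons k8_397 <|
  fa_cons k8_398 <|
  fa_cons k8_399 <|
  fa_cons k8_400 <|
  fa_cons k8_401 <|
  fa_cons k8_402 <|
  fa_cons k8_403 <|
  fa_cons k8_404 <|
  fa_cons k8_405 <|
  fa_cons k8_406 <|
  fa_cons k8_407 <|
  fa_cons k8_408 <|
  fa_cons k8_409 <|
  fa_cons k8_410 <|
  fa_cons k8_411 <|
  fa_cons k8_412 <|
  fa_cons k8_413 <|
  fa_cons k8_414 <|
  fa_cons k8_415 <|
  fa_cons k8_416 <|
  fa_cons k8_417 <|
  fa_cons k8_418 <|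
  fa_cons k8_419 <|
  fa_cons k8_420 <|
  fa_cons k8_421 <|
  fa_cons k8_422 <|
  fa_cons k8_423 <|
  fa_cons k8_424 <|
  fa_cons k8_425 <|
  fa_cons k8_426 <|
  fa_cons k8_427 <|
  fa_cons k8_428 <|
  fa_cons k8_429 <|
  fa_cons k8_430 <|
  fa_cons k8_431 <|
  fa_cons k8_432 <|
  fa_cons k8_433 <|
  fa_cons k8_434 <|
  fa_cons k8_435 <|
  fa_cons k8_436 <|
  fa_cons k8_437 <|
  fa_cons k8_438 <|
  fa_cons k8_439 <|
  fa_cons k8_440 <|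
  fa_cons k8_441 <|
  fa_cons k8_442 <|
  fa_cons k8_443 <|
  fa_cons k8_444 <|
  fa_cons k8_445 <|
  fa_cons k8_446 <|
  fa_cons k8_447 <|
  fa_cons k8_448 <|
  fa_cons k8_449 <|
  fa_cons k8_450 <|
  fa_cons k8_451 <|
  fa_cons k8_452 <|
  fa_cons k8_453 <|
  fa_cons k8_454 <|
  fa_cons k8_455 <|
  fa_cons k8_456 <|
  fa_cons k8_457 <|
  fa_cons k8_458 <|
  fa_cons k8_459 <|
  fa_cons k8_460 <|
  fa_cons k8_461 <|
  fa_cons k8_462 <|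
  fa_cons k8_463 <|
  fa_cons k8_464 <|
  fa_cons k8_465 <|
  fa_cons k8_466 <|
  fa_cons k8_467 <|
  fa_cons k8_468 <|
  fa_cons k8_469 <|
  fa_cons k8_470 <|
  fa_cons k8_471 <|
  fa_cons k8_472 <|
  fa_cons k8_473 <|
  fa_cons k8_474 <|
  fa_cons k8_475 <|
  fa_cons k8_476 <|
  fa_cons k8_477 <|
  fa_cons k8_478 <|
  fa_cons k8_479 <|
  fa_cons k8_480 <|
  fa_cons k8_481 <|
  fa_cons k8_482 <|
  fa_cons k8_483 <|
  fa_cons k8_484 <|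
  fa_cons k8_485 <|
  fa_cons k8_486 <|
  fa_cons k8_487 <|
  fa_cons k8_488 <|
  fa_cons k8_489 <|
  fa_cons k8_490 <|
  fa_cons k8_491 <|
  fa_cons k8_492 <|
  fa_cons k8_493 <|
  fa_cons k8_494 <|
  fa_cons k8_495 <|
  fa_cons k8_496 <|
  fa_cons k8_497 <|
  fa_cons k8_498 <|
  fa_cons k8_499 <|
  fa_cons k8_500 <|
  fa_cons k8_501 <|
  fa_cons k8_502 <|
  fa_cons k8_503 <|
  fa_cons k8_504 <|
  fa_cons k8_505 <|
  fa_cons k8_506 <|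
  fa_cons k8_507 <|
  fa_cons k8_508 <|
  fa_cons k8_509 <|
  fa_cons k8_510 <|
  fa_cons k8_511 <|
  fa_cons k8_512 <|
  fa_cons k8_513 <|
  fa_cons k8_514 <|
  fa_cons k8_515 <|
  fa_cons k8_516 <|
  fa_cons k8_517 <|
  fa_cons k8_518 <|
  fa_cons k8_519 <|
  fa_cons k8_520 <|
  fa_cons k8_521 <|
  fa_cons k8_522 <|
  fa_cons k8_523 <|
  fa_cons k8_524 <|
  fa_cons k8_525 <|
  fa_cons k8_526 <|
  fa_cons k8_527 <|
  fa_cons k8_528 <|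
  fa_cons k8_529 <|
  fa_cons k8_530 <|
  fa_cons k8_531 <|
  fa_cons k8_532 <|
  fa_cons k8_533 <|
  fa_cons k8_534 <|
  fa_cons k8_535 <|
  fa_cons k8_536 <|
  fa_cons k8_537 <|
  fa_cons k8_538 <|
  fa_cons k8_539 <|
  fa_cons k8_540 <|
  fa_cons k8_541 <|
  fa_cons k8_542 <|
  fa_cons k8_543 <|
  fa_cons k8_544 <|
  fa_cons k8_545 <|
  fa_cons k8_546 <|
  fa_cons k8_547 <|
  fa_cons k8_548 <|
  fa_cons k8_549 <|
  fa_cons k8_550 <|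
  fa_cons k8_551 <|
  fa_cons k8_552 <|
  fa_cons k8_553 <|
  fa_cons k8_554 <|
  fa_cons k8_555 <|
  fa_cons k8_556 <|
  fa_cons k8_557 <|
  fa_cons k8_558 <|
  fa_cons k8_559 <|
  fa_cons k8_560 <|
  fa_cons k8_561 <|
  fa_cons k8_562 <|
  fa_cons k8_563 <|
  fa_cons k8_564 <|
  fa_cons k8_565 <|
  fa_cons k8_566 <|
  fa_cons k8_567 <|
  fa_cons k8_568 <|
  fa_cons k8_569 <|
  fa_cons k8_570 <|
  fa_cons k8_571 <|
  fa_cons k8_572 <|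
  fa_cons k8_573 <|
  fa_cons k8_574 <|
  fa_cons k8_575 <|
  fa_cons k8_576 <|
  fa_cons k8_577 <|
  fa_cons k8_578 <|
  fa_cons k8_579 <|
  fa_cons k8_580 <|
  fa_cons k8_581 <|
  fa_cons k8_582 <|
  fa_cons k8_583 <|
  fa_cons k8_584 <|
  fa_cons k8_585 <|
  fa_cons k8_586 <|
  fa_cons k8_587 <|
  fa_cons k8_588 <|
  fa_cons k8_589 <|
  fa_cons k8_590 <|
  fa_cons k8_591 <|
  fa_cons k8_592 <|
  fa_cons k8_593 <|
  fa_cons k8_594 <|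
  fa_cons k8_595 <|
  fa_cons k8_596 <|
  fa_cons k8_597 <|
  fa_cons k8_598 <|
  fa_cons k8_599 <|
  fa_cons k8_600 <|
  fa_cons k8_601 <|
  fa_cons k8_602 <|
  fa_cons k8_603 <|
  fa_cons k8_604 <|
  fa_cons k8_605 <|
  fa_cons k8_606 <|
  fa_cons k8_607 <|
  fa_cons k8_608 <|
  fa_cons k8_609 <|
  fa_cons k8_610 <|
  fa_cons k8_611 <|
  fa_cons k8_612 <|
  fa_cons k8_613 <|
  fa_cons k8_614 <|
  fa_cons k8_615 <|
  fa_cons k8_616 <|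
  fa_cons k8_617 <|
  fa_cons k8_618 <|
  fa_cons k8_619 <|
  fa_cons k8_620 <|
  fa_cons k8_621 <|
  fa_cons k8_622 <|
  fa_cons k8_623 <|
  fa_cons k8_624 <|
  fa_cons k8_625 <|
  fa_cons k8_626 <|
  fa_cons k8_627 <|
  fa_cons k8_628 <|
  fa_cons k8_629 <|
  fa_cons k8_630 <|
  fa_cons k8_631 <|
  fa_cons k8_632 <|
  fa_cons k8_633 <|
  fa_cons k8_634 <|
  fa_cons k8_635 <|
  fa_cons k8_636 <|
  fa_cons k8_637 <|
  fa_cons k8_638 <|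
  fa_cons k8_639 <|
  fa_cons k8_640 <|
  fa_cons k8_641 <|
  fa_cons k8_642 <|
  fa_cons k8_643 <|
  fa_cons k8_644 <|
  fa_cons k8_645 <|
  fa_cons k8_646 <|
  fa_cons k8_647 <|
  fa_cons k8_648 <|
  fa_cons k8_649 <|
  fa_cons k8_650 <|
  fa_cons k8_651 <|
  fa_cons k8_652 <|
  fa_cons k8_653 <|
  fa_cons k8_654 <|
  fa_cons k8_655 <|
  fa_cons k8_656 <|
  fa_cons k8_657 <|
  fa_cons k8_658 <|
  fa_cons k8_659 <|
  fa_cons k8_660 <|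
  fa_cons k8_661 <|
  fa_cons k8_662 <|
  fa_cons k8_663 <|
  fa_cons k8_664 <|
  fa_cons k8_665 <|
  fa_cons k8_666 <|
  fa_cons k8_667 <|
  fa_cons k8_668 <|
  fa_cons k8_669 <|
  fa_cons k8_670 <|
  fa_cons k8_671 <|
  fa_cons k8_672 <|
  fa_cons k8_673 <|
  fa_cons k8_674 <|
  fa_cons k8_675 <|
  fa_cons k8_676 <|
  fa_cons k8_677 <|
  fa_cons k8_678 <|
  fa_cons k8_679 <|
  fa_cons k8_680 <|
  fa_cons k8_681 <|
  fa_cons k8_682 <|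
  fa_cons k8_683 <|
  fa_cons k8_684 <|
  fa_cons k8_685 <|
  fa_cons k8_686 <|
  fa_cons k8_687 <|
  fa_cons k8_688 <|
  fa_cons k8_689 <|
  fa_cons k8_690 <|
  fa_cons k8_691 <|
  fa_cons k8_692 <|
  fa_cons k8_693 <|
  fa_cons k8_694 <|
  fa_cons k8_695 <|
  fa_cons k8_696 <|
  fa_cons k8_697 <|
  fa_cons k8_698 <|
  fa_cons k8_699 <|
  fa_cons k8_700 <|
  fa_cons k8_701 <|
  fa_cons k8_702 <|
  fa_cons k8_703 <|
  fa_cons k8_704 <|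
  fa_cons k8_705 <|
  fa_cons k8_706 <|
  fa_cons k8_707 <|
  fa_cons k8_708 <|
  fa_cons k8_709 <|
  fa_cons k8_710 <|
  fa_cons k8_711 <|
  fa_cons k8_712 <|
  fa_cons k8_713 <|
  fa_cons k8_714 <|
  fa_cons k8_715 <|
  fa_cons k8_716 <|
  fa_cons k8_717 <|
  fa_cons k8_718 <|
  fa_cons k8_719 <|
  fa_cons k8_720 <|
  fa_cons k8_721 <|
  fa_cons k8_722 <|
  fa_cons k8_723 <|
  fa_cons k8_724 <|
  fa_cons k8_725 <|
  fa_cons k8_726 <|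
  fa_cons k8_727 <|
  fa_cons k8_728 <|
  fa_cons k8_729 <|
  fa_cons k8_730 <|
  fa_cons k8_731 <|
  fa_cons k8_732 <|
  fa_cons k8_733 <|
  fa_cons k8_734 <|
  fa_cons k8_735 <|
  fa_cons k8_736 <|
  fa_cons k8_737 <|
  fa_cons k8_738 <|
  fa_cons k8_739 <|
  fa_cons k8_740 <|
  fa_cons k8_741 <|
  fa_cons k8_742 <|
  fa_cons k8_743 <|
  fa_cons k8_744 <|
  fa_cons k8_745 <|
  fa_cons k8_746 <|
  fa_cons k8_747 <|
  fa_cons k8_748 <|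
  fa_cons k8_749 <|
  fa_cons k8_750 <|
  fa_cons k8_751 <|
  fa_cons k8_752 <|
  fa_cons k8_753 <|
  fa_cons k8_754 <|
  fa_cons k8_755 <|
  fa_cons k8_756 <|
  fa_cons k8_757 <|
  fa_cons k8_758 <|
  fa_cons k8_759 <|
  fa_cons k8_760 <|
  fa_cons k8_761 <|
  fa_cons k8_762 <|
  fa_cons k8_763 <|
  fa_cons k8_764 <|
  fa_cons k8_765 <|
  fa_cons k8_766 <|
  fa_cons k8_767 <|
  fa_cons k8_768 <|
  fa_cons k8_769 <|
  fa_cons k8_770 <|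
  fa_cons k8_771 <|
  fa_cons k8_772 <|
  fa_cons k8_773 <|
  fa_cons k8_774 <|
  fa_cons k8_775 <|
  fa_cons k8_776 <|
  fa_cons k8_777 <|
  fa_cons k8_778 <|
  fa_cons k8_779 <|
  fa_cons k8_780 <|
  fa_cons k8_781 <|
  fa_cons k8_782 <|
  fa_cons k8_783 <|
  fa_cons k8_784 <|
  fa_cons k8_785 <|
  fa_cons k8_786 <|
  fa_cons k8_787 <|
  fa_cons k8_788 <|
  fa_cons k8_789 <|
  fa_cons k8_790 <|
  fa_cons k8_791 <|
  fa_cons k8_792 <|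
  fa_cons k8_793 <|
  fa_cons k8_794 <|
  fa_cons k8_795 <|
  fa_cons k8_796 <|
  fa_cons k8_797 <|
  fa_cons k8_798 <|
  fa_cons k8_799 <|
  fa_cons k8_800 <|
  fa_cons k8_801 <|
  fa_cons k8_802 <|
  fa_cons k8_803 <|
  fa_cons k8_804 <|
  fa_cons k8_805 <|
  fa_cons k8_806 <|
  fa_cons k8_807 <|
  fa_cons k8_808 <|
  fa_cons k8_809 <|
  fa_cons k8_810 <|
  fa_cons k8_811 <|
  fa_cons k8_812 <|
  fa_cons k8_813 <|
  fa_cons k8_814 <|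
  fa_cons k8_815 <|
  fa_cons k8_816 <|
  fa_cons k8_817 <|
  fa_cons k8_818 <|
  fa_cons k8_819 <|
  fa_cons k8_820 <|
  fa_cons k8_821 <|
  fa_cons k8_822 <|
  fa_cons k8_823 <|
  fa_cons k8_824 <|
  fa_cons k8_825 <|
  fa_cons k8_826 <|
  fa_cons k8_827 <|
  fa_cons k8_828 <|
  fa_cons k8_829 <|
  fa_cons k8_830 <|
  fa_cons k8_831 <|
  fa_cons k8_832 <|
  fa_cons k8_833 <|
  fa_cons k8_834 <|
  fa_cons k8_835 <|
  fa_cons k8_836 <|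
  fa_cons k8_837 <|
  fa_cons k8_838 <|
  fa_cons k8_839 <|
  fa_cons k8_840 <|
  fa_cons k8_841 <|
  fa_cons k8_842 <|
  fa_cons k8_843 <|
  fa_cons k8_844 <|
  fa_cons k8_845 <|
  fa_cons k8_846 <|
  fa_cons k8_847 <|
  fa_cons k8_848 <|
  fa_cons k8_849 <|
  fa_cons k8_850 <|
  fa_cons k8_851 <|
  fa_cons k8_852 <|
  fa_cons k8_853 <|
  fa_cons k8_854 <|
  fa_cons k8_855 <|
  fa_cons k8_856 <|
  fa_cons k8_857 <|
  fa_cons k8_858 <|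
  fa_cons k8_859 <|
  fa_cons k8_860 <|
  fa_cons k8_861 <|
  fa_cons k8_862 <|
  fa_cons k8_863 <|
  fa_cons k8_864 <|
  fa_cons k8_865 <|
  fa_cons k8_866 <|
  fa_cons k8_867 <|
  fa_cons k8_868 <|
  fa_cons k8_869 <|
  fa_cons k8_870 <|
  fa_cons k8_871 <|
  fa_cons k8_872 <|
  fa_cons k8_873 <|
  fa_cons k8_874 <|
  fa_cons k8_875 <|
  List.forall_mem_nil _

end Cfsg.Agent.FS.N.G
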