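import Cfsg.Agent.FS.N.G.J8
import Cfsg.Agent.FS.N.G.K8
import Cfsg.Agent.FS.Gen.Has7

/-! The generation at the order 512 (generated; helper49, project FS) -/

set_option autoImplicit false
set_option maxRecDepth 100000
set_option Elab.async false

namespace Cfsg.Agent.FS.N.G

open Gen

theorem has9 : Has9 L8 := has9_of (fun _ _ _ h1 h2 h3 h4 => has7 h1 h2 h3 h4) dn7 k8

end Cfsg.Agent.FS.N.G
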