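import Cfsg.Agent.FS.N.G.Up
import Cfsg.Agent.FS.N.G.J.J00
import Cfsg.Agent.FS.N.G.J.J01
import Cfsg.Agent.FS.N.G.J.J02
import Cfsg.Agent.FS.N.G.J.J03
import Cfsg.Agent.FS.N.G.J.J04
import Cfsg.Agent.FS.N.G.J.J05
import Cfsg.Agent.FS.N.G.J.J06
import Cfsg.Agent.FS.N.G.J.J07
import Cfsg.Agent.FS.N.G.J.J08
import Cfsg.Agent.FS.N.G.J.J09
import Cfsg.Agent.FS.N.G.J.J10
import Cfsg.Agent.FS.N.G.J.J11
import Cfsg.Agent.FS.N.G.J.J12
import Cfsg.Agent.FS.N.G.J.J13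
import Cfsg.Agent.FS.N.G.J.J14
import Cfsg.Agent.FS.N.G.J.J15
import Cfsg.Agent.FS.N.G.J.J16
import Cfsg.Agent.FS.N.G.J.J17
import Cfsg.Agent.FS.N.G.J.J18
import Cfsg.Agent.FS.N.G.J.J19
import Cfsg.Agent.FS.N.G.J.J20
import Cfsg.Agent.FS.N.G.J.J21
import Cfsg.Agent.FS.N.G.J.J22
import Cfsg.Agent.FS.N.G.J.J23
import Cfsg.Agent.FS.N.G.J.J24
import Cfsg.Agent.FS.N.G.J.J25
import Cfsg.Agent.FS.N.G.J.J26
import Cfsg.Agent.FS.N.G.J.J27
import Cfsg.Agent.FS.N.G.J.J28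
import Cfsg.Agent.FS.N.G.J.J29
import Cfsg.Agent.FS.N.G.J.J30
import Cfsg.Agent.FS.N.G.J.J31
import Cfsg.Agent.FS.N.G.J.J32
import Cfsg.Agent.FS.N.G.J.J33
import Cfsg.Agent.FS.N.G.J.J34
import Cfsg.Agent.FS.N.G.J.J35
import Cfsg.Agent.FS.N.G.J.J36
import Cfsg.Agent.FS.N.G.J.J37
import Cfsg.Agent.FS.N.G.J.J38
import Cfsg.Agent.FS.N.G.J.J39
import Cfsg.Agent.FS.N.G.J.J40
import Cfsg.Agent.FS.N.G.J.J41

/-! Isomorphisms onto the groups of order 256 (generated; helper49, project FS) -/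

set_option autoImplicit false
set_option maxRecDepth 100000
set_option Elab.async false

namespace Cfsg.Agent.FS.N.G

open Gen

theorem d7_0 : Dn L8 b7_0 := dn_of (Js := [])
  (List.forall_mem_nil _) (by decide +kernel)

theorem d7_1 : Dn L8 b7_1 := dn_of (Js := j7_1_0 ++ ([]))
  (jobs_append t7_1_0 <| List.forall_mem_nil _) (by decide +kernel)

theorem d7_2 : Dn L8 b7_2 := dn_of (Js := j7_2_0 ++ ([]))
  (jobs_append t7_2_0 <| List.forall_mem_nil _) (by decide +kernel)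

theorem d7_3 : Dn L8 b7_3 := dn_of (Js := j7_3_0 ++ ([]))
  (jobs_append t7_3_0 <| List.forall_mem_nil _) (by decide +kernel)

theorem d7_4 : Dn L8 b7_4 := dn_of (Js := j7_4_0 ++ ([]))
  (jobs_append t7_4_0 <| List.forall_mem_nil _) (by decide +kernel)

theorem d7_5 : Dn L8 b7_5 := dn_of (Js := j7_5_0 ++ ([]))
  (jobs_append t7_5_0 <| List.forall_mem_nil _) (by decide +kernel)

theorem d7_6 : Dn L8 b7_6 := dn_of (Js := j7_6_0 ++ ([]))
  (jobs_append t7_6_0 <| List.forall_mem_nil _) (by decide +kernel)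

theorem d7_7 : Dn L8 b7_7 := dn_of (Js := j7_7_0 ++ (j7_7_1 ++ ([])))
  (jobs_append t7_7_0 <| jobs_append t7_7_1 <| List.forall_mem_nil _) (by decide +kernel)

theorem d7_8 : Dn L8 b7_8 := dn_of (Js := j7_8_0 ++ ([]))
  (jobs_append t7_8_0 <| List.forall_mem_nil _) (by decide +kernel)

theorem d7_9 : Dn L8 b7_9 := dn_of (Js := j7_9_0 ++ ([]))
  (jobs_append t7_9_0 <| List.forall_mem_nil _) (by decide +kernel)

theorem d7_10 : Dn L8 b7_10 := dn_of (Js := j7_10_0 ++ (j7_10_1 ++ (j7_10_2 ++ (j7_10_3 ++ (j7_10_4 ++ (j7_10_5 ++ (j7_10_6 ++ (j7_10_7 ++ (j7_10_8 ++ (j7_10_9 ++ (j7_10_10 ++ (j7_10_11 ++ (j7_10_12 ++ (j7_10_13 ++ (j7_10_14 ++ (j7_10_15 ++ (j7_10_16 ++ (j7_10_17 ++ (j7_10_18 ++ (j7_10_19 ++ (j7_10_20 ++ (j7_10_21 ++ (j7_10_22 ++ ([]))))))))))))))))))))))))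
  (jobs_append t7_10_0 <| jobs_append t7_10_1 <| jobs_append t7_10_2 <| jobs_append t7_10_3 <| jobs_append t7_10_4 <| jobs_append t7_10_5 <| jobs_append t7_10_6 <| jobs_append t7_10_7 <| jobs_append t7_10_8 <| jobs_append t7_10_9 <| jobs_append t7_10_10 <| jobs_append t7_10_11 <| jobs_append t7_10_12 <| jobs_append t7_10_13 <| jobs_append t7_10_14 <| jobs_append t7_10_15 <| jobs_append t7_10_16 <| jobs_append t7_10_17 <| jobs_append t7_10_18 <| jobs_append t7_10_19 <| jobs_append t7_10_20 <| jobs_append t7_10_21 <| jobs_append t7_10_22 <| List.forall_mem_nil _) (by decide +kernel)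

theorem d7_11 : Dn L8 b7_11 := dn_of (Js := j7_11_0 ++ (j7_11_1 ++ (j7_11_2 ++ (j7_11_3 ++ (j7_11_4 ++ (j7_11_5 ++ (j7_11_6 ++ (j7_11_7 ++ (j7_11_8 ++ (j7_11_9 ++ (j7_11_10 ++ (j7_11_11 ++ (j7_11_12 ++ (j7_11_13 ++ (j7_11_14 ++ (j7_11_15 ++ (j7_11_16 ++ (j7_11_17 ++ (j7_11_18 ++ (j7_11_19 ++ (j7_11_20 ++ (j7_11_21 ++ (j7_11_22 ++ (j7_11_23 ++ (j7_11_24 ++ (j7_11_25 ++ (j7_11_26 ++ (j7_11_27 ++ (j7_11_28 ++ (j7_11_29 ++ (j7_11_30 ++ (j7_11_31 ++ (j7_11_32 ++ (j7_11_33 ++ (j7_11_34 ++ (j7_11_35 ++ (j7_11_36 ++ (j7_11_37 ++ (j7_11_38 ++ (j7_11_39 ++ (j7_11_40 ++ (j7_11_41 ++ (j7_11_42 ++ (j7_11_43 ++ (j7_11_44 ++ (j7_11_45 ++ (j7_11_46 ++ ([]))))))))))))))))))))))))))))))))))))))))))))))))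
  (jobs_append t7_11_0 <| jobs_append t7_11_1 <| jobs_append t7_11_2 <| jobs_append t7_11_3 <| jobs_append t7_11_4 <| jobs_append t7_11_5 <| jobs_append t7_11_6 <| jobs_append t7_11_7 <| jobs_append t7_11_8 <| jobs_append t7_11_9 <| jobs_append t7_11_10 <| jobs_append t7_11_11 <| jobs_append t7_11_12 <| jobs_append t7_11_13 <| jobs_append t7_11_14 <| jobs_append t7_11_15 <| jobs_append t7_11_16 <| jobs_append t7_11_17 <| jobs_append t7_11_18 <| jobs_append t7_11_19 <| jobs_append t7_11_20 <| jobs_append t7_11_21 <| jobs_append t7_11_22 <| jobs_append t7_11_23 <| jobs_append t7_11_24 <| jobs_append t7_11_25 <| jobs_append t7_11_26 <| jobs_append t7_11_27 <| jobs_append t7_11_28 <| jobs_append t7_11_29 <| jobs_append t7_11_30 <| jobs_append t7_11_31 <| jobs_append t7_11_32 <| jobs_append t7_11_33 <| jobs_append t7_11_34 <| jobs_append t7_11_35 <| jobs_append t7_11_36 <| jobs_append t7_11_37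 <| jobs_append t7_11_38 <| jobs_append t7_11_39 <| jobs_append t7_11_40 <| jobs_append t7_11_41 <| jobs_append t7_11_42 <| jobs_append t7_11_43 <| jobs_append t7_11_44 <| jobs_append t7_11_45 <| jobs_append t7_11_46 <| List.forall_mem_nil _) (by decide +kernel)

theorem d7_12 : Dn L8 b7_12 := dn_of (Js := j7_12_0 ++ (j7_12_1 ++ (j7_12_2 ++ (j7_12_3 ++ (j7_12_4 ++ (j7_12_5 ++ (j7_12_6 ++ (j7_12_7 ++ (j7_12_8 ++ (j7_12_9 ++ (j7_12_10 ++ (j7_12_11 ++ (j7_12_12 ++ (j7_12_13 ++ (j7_12_14 ++ (j7_12_15 ++ (j7_12_16 ++ (j7_12_17 ++ (j7_12_18 ++ (j7_12_19 ++ (j7_12_20 ++ (j7_12_21 ++ (j7_12_22 ++ (j7_12_23 ++ (j7_12_24 ++ (j7_12_25 ++ (j7_12_26 ++ (j7_12_27 ++ (j7_12_28 ++ (j7_12_29 ++ (j7_12_30 ++ (j7_12_31 ++ (j7_12_32 ++ (j7_12_33 ++ (j7_12_34 ++ (j7_12_35 ++ (j7_12_36 ++ (j7_12_37 ++ (j7_12_38 ++ (j7_12_39 ++ (j7_12_40 ++ (j7_12_41 ++ (j7_12_42 ++ (j7_12_43 ++ (j7_12_44 ++ (j7_12_45 ++ (j7_12_46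 ++ (j7_12_47 ++ (j7_12_48 ++ (j7_12_49 ++ (j7_12_50 ++ (j7_12_51 ++ (j7_12_52 ++ (j7_12_53 ++ (j7_12_54 ++ (j7_12_55 ++ (j7_12_56 ++ (j7_12_57 ++ (j7_12_58 ++ (j7_12_59 ++ (j7_12_60 ++ (j7_12_61 ++ (j7_12_62 ++ (j7_12_63 ++ (j7_12_64 ++ ([]))))))))))))))))))))))))))))))))))))))))))))))))))))))))))))))))))
  (jobs_append t7_12_0 <| jobs_append t7_12_1 <| jobs_append t7_12_2 <| jobs_append t7_12_3 <| jobs_append t7_12_4 <| jobs_append t7_12_5 <| jobs_append t7_12_6 <| jobs_append t7_12_7 <| jobs_append t7_12_8 <| jobs_append t7_12_9 <| jobs_append t7_12_10 <| jobs_append t7_12_11 <| jobs_append t7_12_12 <| jobs_append t7_12_13 <| jobs_append t7_12_14 <| jobs_append t7_12_15 <| jobs_append t7_12_16 <| jobs_append t7_12_17 <| jobs_append t7_12_18 <| jobs_append t7_12_19 <| jobs_append t7_12_20 <| jobs_append t7_12_21 <| jobs_append t7_12_22 <| jobs_append t7_12_23 <| jobs_append t7_12_24 <|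 jobs_append t7_12_25 <| jobs_append t7_12_26 <| jobs_append t7_12_27 <| jobs_append t7_12_28 <| jobs_append t7_12_29 <| jobs_append t7_12_30 <| jobs_append t7_12_31 <| jobs_append t7_12_32 <| jobs_append t7_12_33 <| jobs_append t7_12_34 <| jobs_append t7_12_35 <| jobs_append t7_12_36 <| jobs_append t7_12_37 <| jobs_append t7_12_38 <| jobs_append t7_12_39 <| jobs_append t7_12_40 <| jobs_append t7_12_41 <| jobs_append t7_12_42 <| jobs_append t7_12_43 <| jobs_append t7_12_44 <| jobs_append t7_12_45 <| jobs_append t7_12_46 <| jobs_append t7_12_47 <| jobs_append t7_12_48 <| jobs_append t7_12_49 <| jobs_append t7_12_50 <| jobs_append t7_12_51 <| jobs_append t7_12_52 <| jobs_append t7_12_53 <| jobs_append t7_12_54 <| jobs_append t7_12_55 <| jobs_append t7_12_56 <| jobs_append t7_12_57 <| jobs_append t7_12_58 <| jobs_append t7_12_59 <| jobs_append t7_12_60 <| jobs_append t7_12_61 <| jobs_append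 t7_12_62 <| jobs_append t7_12_63 <| jobs_append t7_12_64 <| List.forall_mem_nil _) (by decide +kernel)

theorem d7_13 : Dn L8 b7_13 := dn_of (Js := j7_13_0 ++ (j7_13_1 ++ (j7_13_2 ++ (j7_13_3 ++ (j7_13_4 ++ (j7_13_5 ++ (j7_13_6 ++ (j7_13_7 ++ (j7_13_8 ++ (j7_13_9 ++ (j7_13_10 ++ (j7_13_11 ++ (j7_13_12 ++ (j7_13_13 ++ (j7_13_14 ++ (j7_13_15 ++ (j7_13_16 ++ (j7_13_17 ++ (j7_13_18 ++ (j7_13_19 ++ (j7_13_20 ++ (j7_13_21 ++ (j7_13_22 ++ (j7_13_23 ++ (j7_13_24 ++ (j7_13_25 ++ (j7_13_26 ++ (j7_13_27 ++ (j7_13_28 ++ (j7_13_29 ++ (j7_13_30 ++ (j7_13_31 ++ (j7_13_32 ++ (j7_13_33 ++ (j7_13_34 ++ (j7_13_35 ++ (j7_13_36 ++ (j7_13_37 ++ (j7_13_38 ++ (j7_13_39 ++ (j7_13_40 ++ (j7_13_41 ++ (j7_13_42 ++ (j7_13_43 ++ (j7_13_44 ++ (j7_13_45 ++ (j7_13_46 ++ (j7_13_47 ++ (j7_13_48 ++ (j7_13_49 ++ (j7_13_50 ++ (j7_13_51 ++ (j7_13_52 ++ (j7_13_53 ++ (j7_13_54 ++ (j7_13_55 ++ (j7_13_56 ++ (j7_13_57 ++ (j7_13_58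 ++ (j7_13_59 ++ (j7_13_60 ++ (j7_13_61 ++ (j7_13_62 ++ (j7_13_63 ++ (j7_13_64 ++ (j7_13_65 ++ (j7_13_66 ++ (j7_13_67 ++ (j7_13_68 ++ (j7_13_69 ++ (j7_13_70 ++ (j7_13_71 ++ (j7_13_72 ++ (j7_13_73 ++ (j7_13_74 ++ (j7_13_75 ++ (j7_13_76 ++ (j7_13_77 ++ (j7_13_78 ++ (j7_13_79 ++ (j7_13_80 ++ (j7_13_81 ++ (j7_13_82 ++ (j7_13_83 ++ (j7_13_84 ++ (j7_13_85 ++ (j7_13_86 ++ (j7_13_87 ++ (j7_13_88 ++ (j7_13_89 ++ (j7_13_90 ++ (j7_13_91 ++ (j7_13_92 ++ (j7_13_93 ++ (j7_13_94 ++ (j7_13_95 ++ (j7_13_96 ++ (j7_13_97 ++ (j7_13_98 ++ (j7_13_99 ++ (j7_13_100 ++ (j7_13_101 ++ (j7_13_102 ++ (j7_13_103 ++ (j7_13_104 ++ (j7_13_105 ++ (j7_13_106 ++ (j7_13_107 ++ (j7_13_108 ++ (j7_13_109 ++ (j7_13_110 ++ (j7_13_111 ++ (j7_13_112 ++ (j7_13_113 ++ (j7_13_114 ++ (j7_13_115 ++ (j7_13_116 ++ (j7_13_117 ++ (j7_13_118 ++ (j7_13_119 ++ (j7_13_120 ++ (j7_13_121 ++ (j7_13_122 ++ (j7_13_123 ++ (j7_13_124 ++ (j7_13_125 ++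 (j7_13_126 ++ (j7_13_127 ++ (j7_13_128 ++ (j7_13_129 ++ (j7_13_130 ++ (j7_13_131 ++ (j7_13_132 ++ (j7_13_133 ++ (j7_13_134 ++ (j7_13_135 ++ (j7_13_136 ++ (j7_13_137 ++ (j7_13_138 ++ (j7_13_139 ++ (j7_13_140 ++ (j7_13_141 ++ (j7_13_142 ++ (j7_13_143 ++ (j7_13_144 ++ (j7_13_145 ++ (j7_13_146 ++ (j7_13_147 ++ (j7_13_148 ++ (j7_13_149 ++ (j7_13_150 ++ (j7_13_151 ++ (j7_13_152 ++ (j7_13_153 ++ (j7_13_154 ++ (j7_13_155 ++ (j7_13_156 ++ (j7_13_157 ++ (j7_13_158 ++ (j7_13_159 ++ (j7_13_160 ++ (j7_13_161 ++ (j7_13_162 ++ (j7_13_163 ++ (j7_13_164 ++ (j7_13_165 ++ (j7_13_166 ++ (j7_13_167 ++ ([])))))))))))))))))))))))))))))))))))))))))))))))))))))))))))))))))))))))))))))))))))))))))))))))))))))))))))))))))))))))))))))))))))))))))))))))))))))))))))))))))))))))))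
  (jobs_append t7_13_0 <| jobs_append t7_13_1 <| jobs_append t7_13_2 <| jobs_append t7_13_3 <| jobs_append t7_13_4 <| jobs_append t7_13_5 <| jobs_append t7_13_6 <| jobs_append t7_13_7 <| jobs_append t7_13_8 <| jobs_append t7_13_9 <| jobs_append t7_13_10 <| jobs_append t7_13_11 <| jobs_append t7_13_12 <| jobs_append t7_13_13 <| jobs_append t7_13_14 <| jobs_append t7_13_15 <| jobs_append t7_13_16 <| jobs_append t7_13_17 <| jobs_append t7_13_18 <| jobs_append t7_13_19 <| jobs_append t7_13_20 <| jobs_append t7_13_21 <| jobs_append t7_13_22 <| jobs_append t7_13_23 <| jobs_append t7_13_24 <| jobs_append t7_13_25 <| jobs_append t7_13_26 <| jobs_append t7_13_27 <| jobs_append t7_13_28 <| jobs_append t7_13_29 <| jobs_append t7_13_30 <| jobs_append t7_13_31 <| jobs_append t7_13_32 <| jobs_append t7_13_33 <| jobs_append t7_13_34 <| jobs_append t7_13_35 <| jobs_append t7_13_36 <| jobs_append t7_13_37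 <| jobs_append t7_13_38 <| jobs_append t7_13_39 <| jobs_append t7_13_40 <| jobs_append t7_13_41 <| jobs_append t7_13_42 <| jobs_append t7_13_43 <| jobs_append t7_13_44 <| jobs_append t7_13_45 <| jobs_append t7_13_46 <| jobs_append t7_13_47 <| jobs_append t7_13_48 <| jobs_append t7_13_49 <| jobs_append t7_13_50 <| jobs_append t7_13_51 <| jobs_append t7_13_52 <| jobs_append t7_13_53 <| jobs_append t7_13_54 <| jobs_append t7_13_55 <| jobs_append t7_13_56 <| jobs_append t7_13_57 <| jobs_append t7_13_58 <| jobs_append t7_13_59 <| jobs_append t7_13_60 <| jobs_append t7_13_61 <| jobs_append t7_13_62 <| jobs_append t7_13_63 <| jobs_append t7_13_64 <| jobs_append t7_13_65 <| jobs_append t7_13_66 <| jobs_append t7_13_67 <| jobs_append t7_13_68 <| jobs_append t7_13_69 <| jobs_append t7_13_70 <| jobs_append t7_13_71 <| jobs_append t7_13_72 <| jobs_append t7_13_73 <| jobs_append t7_13_74 <| jobs_append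 t7_13_75 <| jobs_append t7_13_76 <| jobs_append t7_13_77 <| jobs_append t7_13_78 <| jobs_append t7_13_79 <| jobs_append t7_13_80 <| jobs_append t7_13_81 <| jobs_append t7_13_82 <| jobs_append t7_13_83 <| jobs_append t7_13_84 <| jobs_append t7_13_85 <| jobs_append t7_13_86 <| jobs_append t7_13_87 <| jobs_append t7_13_88 <| jobs_append t7_13_89 <| jobs_append t7_13_90 <| jobs_append t7_13_91 <| jobs_append t7_13_92 <| jobs_append t7_13_93 <| jobs_append t7_13_94 <| jobs_append t7_13_95 <| jobs_append t7_13_96 <| jobs_append t7_13_97 <| jobs_append t7_13_98 <| jobs_append t7_13_99 <| jobs_append t7_13_100 <| jobs_append t7_13_101 <| jobs_append t7_13_102 <| jobs_append t7_13_103 <| jobs_append t7_13_104 <| jobs_append t7_13_105 <| jobs_append t7_13_106 <| jobs_append t7_13_107 <| jobs_append t7_13_108 <| jobs_append t7_13_109 <| jobs_append t7_13_110 <| jobs_append t7_13_111 <| jobs_append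 t7_13_112 <| jobs_append t7_13_113 <| jobs_append t7_13_114 <| jobs_append t7_13_115 <| jobs_append t7_13_116 <| jobs_append t7_13_117 <| jobs_append t7_13_118 <| jobs_append t7_13_119 <| jobs_append t7_13_120 <| jobs_append t7_13_121 <| jobs_append t7_13_122 <| jobs_append t7_13_123 <| jobs_append t7_13_124 <| jobs_append t7_13_125 <| jobs_append t7_13_126 <| jobs_append t7_13_127 <| jobs_append t7_13_128 <| jobs_append t7_13_129 <| jobs_append t7_13_130 <| jobs_append t7_13_131 <| jobs_append t7_13_132 <| jobs_append t7_13_133 <| jobs_append t7_13_134 <| jobs_append t7_13_135 <| jobs_append t7_13_136 <| jobs_append t7_13_137 <| jobs_append t7_13_138 <| jobs_append t7_13_139 <| jobs_append t7_13_140 <| jobs_append t7_13_141 <| jobs_append t7_13_142 <| jobs_append t7_13_143 <| jobs_append t7_13_144 <| jobs_append t7_13_145 <| jobs_append t7_13_146 <| jobs_append t7_13_147 <| jobs_append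 t7_13_148 <| jobs_append t7_13_149 <| jobs_append t7_13_150 <| jobs_append t7_13_151 <| jobs_append t7_13_152 <| jobs_append t7_13_153 <| jobs_append t7_13_154 <| jobs_append t7_13_155 <| jobs_append t7_13_156 <| jobs_append t7_13_157 <| jobs_append t7_13_158 <| jobs_append t7_13_159 <| jobs_append t7_13_160 <| jobs_append t7_13_161 <| jobs_append t7_13_162 <| jobs_append t7_13_163 <| jobs_append t7_13_164 <| jobs_append t7_13_165 <| jobs_append t7_13_166 <| jobs_append t7_13_167 <| List.forall_mem_nil _) (by decide +kernel)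

theorem d7_14 : Dn L8 b7_14 := dn_of (Js := j7_14_0 ++ (j7_14_1 ++ (j7_14_2 ++ (j7_14_3 ++ (j7_14_4 ++ (j7_14_5 ++ (j7_14_6 ++ (j7_14_7 ++ (j7_14_8 ++ (j7_14_9 ++ (j7_14_10 ++ (j7_14_11 ++ (j7_14_12 ++ (j7_14_13 ++ (j7_14_14 ++ (j7_14_15 ++ (j7_14_16 ++ (j7_14_17 ++ (j7_14_18 ++ (j7_14_19 ++ (j7_14_20 ++ (j7_14_21 ++ (j7_14_22 ++ (j7_14_23 ++ (j7_14_24 ++ (j7_14_25 ++ (j7_14_26 ++ (j7_14_27 ++ (j7_14_28 ++ (j7_14_29 ++ (j7_14_30 ++ (j7_14_31 ++ (j7_14_32 ++ (j7_14_33 ++ (j7_14_34 ++ (j7_14_35 ++ (j7_14_36 ++ (j7_14_37 ++ (j7_14_38 ++ (j7_14_39 ++ (j7_14_40 ++ (j7_14_41 ++ (j7_14_42 ++ (j7_14_43 ++ (j7_14_44 ++ (j7_14_45 ++ (j7_14_46 ++ (j7_14_47 ++ (j7_14_48 ++ (j7_14_49 ++ (j7_14_50 ++ (j7_14_51 ++ (j7_14_52 ++ (j7_14_53 ++ (j7_14_54 ++ (j7_14_55 ++ (j7_14_56 ++ (j7_14_57 ++ (j7_14_58 ++ (j7_14_59 ++ (j7_14_60 ++ (j7_14_61 ++ (j7_14_62 ++ (j7_14_63 ++ (j7_14_64 ++ (j7_14_65 ++ (j7_14_66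 ++ (j7_14_67 ++ (j7_14_68 ++ (j7_14_69 ++ (j7_14_70 ++ (j7_14_71 ++ (j7_14_72 ++ (j7_14_73 ++ (j7_14_74 ++ (j7_14_75 ++ (j7_14_76 ++ (j7_14_77 ++ (j7_14_78 ++ (j7_14_79 ++ (j7_14_80 ++ (j7_14_81 ++ (j7_14_82 ++ (j7_14_83 ++ (j7_14_84 ++ (j7_14_85 ++ (j7_14_86 ++ (j7_14_87 ++ (j7_14_88 ++ (j7_14_89 ++ (j7_14_90 ++ (j7_14_91 ++ (j7_14_92 ++ (j7_14_93 ++ (j7_14_94 ++ (j7_14_95 ++ (j7_14_96 ++ (j7_14_97 ++ (j7_14_98 ++ (j7_14_99 ++ (j7_14_100 ++ (j7_14_101 ++ (j7_14_102 ++ (j7_14_103 ++ (j7_14_104 ++ (j7_14_105 ++ (j7_14_106 ++ (j7_14_107 ++ (j7_14_108 ++ (j7_14_109 ++ (j7_14_110 ++ (j7_14_111 ++ (j7_14_112 ++ (j7_14_113 ++ (j7_14_114 ++ (j7_14_115 ++ (j7_14_116 ++ (j7_14_117 ++ (j7_14_118 ++ (j7_14_119 ++ (j7_14_120 ++ (j7_14_121 ++ (j7_14_122 ++ (j7_14_123 ++ (j7_14_124 ++ (j7_14_125 ++ (j7_14_126 ++ (j7_14_127 ++ (j7_14_128 ++ (j7_14_129 ++ (j7_14_130 ++ (j7_14_131 ++ (j7_14_132 ++ (j7_14_133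 ++ (j7_14_134 ++ (j7_14_135 ++ (j7_14_136 ++ (j7_14_137 ++ (j7_14_138 ++ (j7_14_139 ++ (j7_14_140 ++ (j7_14_141 ++ (j7_14_142 ++ (j7_14_143 ++ (j7_14_144 ++ (j7_14_145 ++ (j7_14_146 ++ (j7_14_147 ++ (j7_14_148 ++ (j7_14_149 ++ (j7_14_150 ++ (j7_14_151 ++ (j7_14_152 ++ (j7_14_153 ++ (j7_14_154 ++ (j7_14_155 ++ (j7_14_156 ++ (j7_14_157 ++ (j7_14_158 ++ (j7_14_159 ++ (j7_14_160 ++ (j7_14_161 ++ (j7_14_162 ++ (j7_14_163 ++ (j7_14_164 ++ (j7_14_165 ++ (j7_14_166 ++ (j7_14_167 ++ (j7_14_168 ++ (j7_14_169 ++ (j7_14_170 ++ (j7_14_171 ++ (j7_14_172 ++ (j7_14_173 ++ (j7_14_174 ++ (j7_14_175 ++ (j7_14_176 ++ (j7_14_177 ++ (j7_14_178 ++ (j7_14_179 ++ (j7_14_180 ++ (j7_14_181 ++ (j7_14_182 ++ (j7_14_183 ++ (j7_14_184 ++ (j7_14_185 ++ (j7_14_186 ++ (j7_14_187 ++ (j7_14_188 ++ (j7_14_189 ++ (j7_14_190 ++ (j7_14_191 ++ (j7_14_192 ++ (j7_14_193 ++ (j7_14_194 ++ (j7_14_195 ++ (j7_14_196 ++ (j7_14_197 ++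 (j7_14_198 ++ (j7_14_199 ++ (j7_14_200 ++ (j7_14_201 ++ (j7_14_202 ++ (j7_14_203 ++ (j7_14_204 ++ (j7_14_205 ++ (j7_14_206 ++ (j7_14_207 ++ (j7_14_208 ++ (j7_14_209 ++ (j7_14_210 ++ (j7_14_211 ++ (j7_14_212 ++ (j7_14_213 ++ (j7_14_214 ++ (j7_14_215 ++ (j7_14_216 ++ (j7_14_217 ++ (j7_14_218 ++ (j7_14_219 ++ (j7_14_220 ++ (j7_14_221 ++ (j7_14_222 ++ (j7_14_223 ++ (j7_14_224 ++ (j7_14_225 ++ (j7_14_226 ++ (j7_14_227 ++ (j7_14_228 ++ (j7_14_229 ++ (j7_14_230 ++ (j7_14_231 ++ (j7_14_232 ++ (j7_14_233 ++ (j7_14_234 ++ (j7_14_235 ++ (j7_14_236 ++ (j7_14_237 ++ (j7_14_238 ++ (j7_14_239 ++ (j7_14_240 ++ (j7_14_241 ++ (j7_14_242 ++ (j7_14_243 ++ (j7_14_244 ++ (j7_14_245 ++ (j7_14_246 ++ (j7_14_247 ++ (j7_14_248 ++ (j7_14_249 ++ (j7_14_250 ++ (j7_14_251 ++ (j7_14_252 ++ (j7_14_253 ++ (j7_14_254 ++ (j7_14_255 ++ (j7_14_256 ++ ([]))))))))))))))))))))))))))))))))))))))))))))))))))))))))))))))))))))))))))))))))))))))))))))))))))))))))))))))))))))))))))))))))))))))))))))))))))))))))))))))))))))))))))))))))))))))))))))))))))))))))))))))))))))))))))))))))))))))))))))))))))))))))))))))))))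
  (jobs_append t7_14_0 <| jobs_append t7_14_1 <| jobs_append t7_14_2 <| jobs_append t7_14_3 <| jobs_append t7_14_4 <| jobs_append t7_14_5 <| jobs_append t7_14_6 <| jobs_append t7_14_7 <| jobs_append t7_14_8 <| jobs_append t7_14_9 <| jobs_append t7_14_10 <| jobs_append t7_14_11 <| jobs_append t7_14_12 <| jobs_append t7_14_13 <| jobs_append t7_14_14 <| jobs_append t7_14_15 <| jobs_append t7_14_16 <| jobs_append t7_14_17 <| jobs_append t7_14_18 <| jobs_append t7_14_19 <| jobs_append t7_14_20 <| jobs_append t7_14_21 <| jobs_append t7_14_22 <| jobs_append t7_14_23 <| jobs_append t7_14_24 <| jobs_append t7_14_25 <| jobs_append t7_14_26 <| jobs_append t7_14_27 <| jobs_append t7_14_28 <| jobs_append t7_14_29 <| jobs_append t7_14_30 <| jobs_append t7_14_31 <| jobs_append t7_14_32 <| jobs_append t7_14_33 <| jobs_append t7_14_34 <| jobs_append t7_14_35 <| jobs_append t7_14_36 <| jobs_append t7_14_37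 <| jobs_append t7_14_38 <| jobs_append t7_14_39 <| jobs_append t7_14_40 <| jobs_append t7_14_41 <| jobs_append t7_14_42 <| jobs_append t7_14_43 <| jobs_append t7_14_44 <| jobs_append t7_14_45 <| jobs_append t7_14_46 <| jobs_append t7_14_47 <| jobs_append t7_14_48 <| jobs_append t7_14_49 <| jobs_append t7_14_50 <| jobs_append t7_14_51 <| jobs_append t7_14_52 <| jobs_append t7_14_53 <| jobs_append t7_14_54 <| jobs_append t7_14_55 <| jobs_append t7_14_56 <| jobs_append t7_14_57 <| jobs_append t7_14_58 <| jobs_append t7_14_59 <| jobs_append t7_14_60 <| jobs_append t7_14_61 <| jobs_append t7_14_62 <| jobs_append t7_14_63 <| jobs_append t7_14_64 <| jobs_append t7_14_65 <| jobs_append t7_14_66 <| jobs_append t7_14_67 <| jobs_append t7_14_68 <| jobs_append t7_14_69 <| jobs_append t7_14_70 <| jobs_append t7_14_71 <| jobs_append t7_14_72 <| jobs_append t7_14_73 <| jobs_append t7_14_74 <| jobs_append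 t7_14_75 <| jobs_append t7_14_76 <| jobs_append t7_14_77 <| jobs_append t7_14_78 <| jobs_append t7_14_79 <| jobs_append t7_14_80 <| jobs_append t7_14_81 <| jobs_append t7_14_82 <| jobs_append t7_14_83 <| jobs_append t7_14_84 <| jobs_append t7_14_85 <| jobs_append t7_14_86 <| jobs_append t7_14_87 <| jobs_append t7_14_88 <| jobs_append t7_14_89 <| jobs_append t7_14_90 <| jobs_append t7_14_91 <| jobs_append t7_14_92 <| jobs_append t7_14_93 <| jobs_append t7_14_94 <| jobs_append t7_14_95 <| jobs_append t7_14_96 <| jobs_append t7_14_97 <| jobs_append t7_14_98 <| jobs_append t7_14_99 <| jobs_append t7_14_100 <| jobs_append t7_14_101 <| jobs_append t7_14_102 <| jobs_append t7_14_103 <| jobs_append t7_14_104 <| jobs_append t7_14_105 <| jobs_append t7_14_106 <| jobs_append t7_14_107 <| jobs_append t7_14_108 <| jobs_append t7_14_109 <| jobs_append t7_14_110 <| jobs_append t7_14_111 <| jobs_append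 t7_14_112 <| jobs_append t7_14_113 <| jobs_append t7_14_114 <| jobs_append t7_14_115 <| jobs_append t7_14_116 <| jobs_append t7_14_117 <| jobs_append t7_14_118 <| jobs_append t7_14_119 <| jobs_append t7_14_120 <| jobs_append t7_14_121 <| jobs_append t7_14_122 <| jobs_append t7_14_123 <| jobs_append t7_14_124 <| jobs_append t7_14_125 <| jobs_append t7_14_126 <| jobs_append t7_14_127 <| jobs_append t7_14_128 <| jobs_append t7_14_129 <| jobs_append t7_14_130 <| jobs_append t7_14_131 <| jobs_append t7_14_132 <| jobs_append t7_14_133 <| jobs_append t7_14_134 <| jobs_append t7_14_135 <| jobs_append t7_14_136 <| jobs_append t7_14_137 <| jobs_append t7_14_138 <| jobs_append t7_14_139 <| jobs_append t7_14_140 <| jobs_append t7_14_141 <| jobs_append t7_14_142 <| jobs_append t7_14_143 <| jobs_append t7_14_144 <| jobs_append t7_14_145 <| jobs_append t7_14_146 <| jobs_append t7_14_147 <| jobs_append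 t7_14_148 <| jobs_append t7_14_149 <| jobs_append t7_14_150 <| jobs_append t7_14_151 <| jobs_append t7_14_152 <| jobs_append t7_14_153 <| jobs_append t7_14_154 <| jobs_append t7_14_155 <| jobs_append t7_14_156 <| jobs_append t7_14_157 <| jobs_append t7_14_158 <| jobs_append t7_14_159 <| jobs_append t7_14_160 <| jobs_append t7_14_161 <| jobs_append t7_14_162 <| jobs_append t7_14_163 <| jobs_append t7_14_164 <| jobs_append t7_14_165 <| jobs_append t7_14_166 <| jobs_append t7_14_167 <| jobs_append t7_14_168 <| jobs_append t7_14_169 <| jobs_append t7_14_170 <| jobs_append t7_14_171 <| jobs_append t7_14_172 <| jobs_append t7_14_173 <| jobs_append t7_14_174 <| jobs_append t7_14_175 <| jobs_append t7_14_176 <| jobs_append t7_14_177 <| jobs_append t7_14_178 <| jobs_append t7_14_179 <| jobs_append t7_14_180 <| jobs_append t7_14_181 <| jobs_append t7_14_182 <| jobs_append t7_14_183 <| jobs_append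 t7_14_184 <| jobs_append t7_14_185 <| jobs_append t7_14_186 <| jobs_append t7_14_187 <| jobs_append t7_14_188 <| jobs_append t7_14_189 <| jobs_append t7_14_190 <| jobs_append t7_14_191 <| jobs_append t7_14_192 <| jobs_append t7_14_193 <| jobs_append t7_14_194 <| jobs_append t7_14_195 <| jobs_append t7_14_196 <| jobs_append t7_14_197 <| jobs_append t7_14_198 <| jobs_append t7_14_199 <| jobs_append t7_14_200 <| jobs_append t7_14_201 <| jobs_append t7_14_202 <| jobs_append t7_14_203 <| jobs_append t7_14_204 <| jobs_append t7_14_205 <| jobs_append t7_14_206 <| jobs_append t7_14_207 <| jobs_append t7_14_208 <| jobs_append t7_14_209 <| jobs_append t7_14_210 <| jobs_append t7_14_211 <| jobs_append t7_14_212 <| jobs_append t7_14_213 <| jobs_append t7_14_214 <| jobs_append t7_14_215 <| jobs_append t7_14_216 <| jobs_append t7_14_217 <| jobs_append t7_14_218 <| jobs_append t7_14_219 <| jobs_append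 t7_14_220 <| jobs_append t7_14_221 <| jobs_append t7_14_222 <| jobs_append t7_14_223 <| jobs_append t7_14_224 <| jobs_append t7_14_225 <| jobs_append t7_14_226 <| jobs_append t7_14_227 <| jobs_append t7_14_228 <| jobs_append t7_14_229 <| jobs_append t7_14_230 <| jobs_append t7_14_231 <| jobs_append t7_14_232 <| jobs_append t7_14_233 <| jobs_append t7_14_234 <| jobs_append t7_14_235 <| jobs_append t7_14_236 <| jobs_append t7_14_237 <| jobs_append t7_14_238 <| jobs_append t7_14_239 <| jobs_append t7_14_240 <| jobs_append t7_14_241 <| jobs_append t7_14_242 <| jobs_append t7_14_243 <| jobs_append t7_14_244 <| jobs_append t7_14_245 <| jobs_append t7_14_246 <| jobs_append t7_14_247 <| jobs_append t7_14_248 <| jobs_append t7_14_249 <| jobs_append t7_14_250 <| jobs_append t7_14_251 <| jobs_append t7_14_252 <| jobs_append t7_14_253 <| jobs_append t7_14_254 <| jobs_append t7_14_255 <| jobs_append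 t7_14_256 <| List.forall_mem_nil _) (by decide +kernel)

theorem d7_15 : Dn L8 b7_15 := dn_of (Js := j7_15_0 ++ (j7_15_1 ++ (j7_15_2 ++ (j7_15_3 ++ (j7_15_4 ++ (j7_15_5 ++ (j7_15_6 ++ (j7_15_7 ++ (j7_15_8 ++ (j7_15_9 ++ (j7_15_10 ++ (j7_15_11 ++ (j7_15_12 ++ (j7_15_13 ++ (j7_15_14 ++ (j7_15_15 ++ (j7_15_16 ++ (j7_15_17 ++ (j7_15_18 ++ (j7_15_19 ++ (j7_15_20 ++ (j7_15_21 ++ (j7_15_22 ++ (j7_15_23 ++ (j7_15_24 ++ (j7_15_25 ++ (j7_15_26 ++ (j7_15_27 ++ (j7_15_28 ++ (j7_15_29 ++ (j7_15_30 ++ (j7_15_31 ++ (j7_15_32 ++ (j7_15_33 ++ (j7_15_34 ++ (j7_15_35 ++ (j7_15_36 ++ (j7_15_37 ++ (j7_15_38 ++ (j7_15_39 ++ (j7_15_40 ++ (j7_15_41 ++ (j7_15_42 ++ (j7_15_43 ++ (j7_15_44 ++ (j7_15_45 ++ (j7_15_46 ++ (j7_15_47 ++ (j7_15_48 ++ (j7_15_49 ++ (j7_15_50 ++ (j7_15_51 ++ (j7_15_52 ++ (j7_15_53 ++ (j7_15_54 ++ (j7_15_55 ++ (j7_15_56 ++ (j7_15_57 ++ (j7_15_58 ++ (j7_15_59 ++ (j7_15_60 ++ (j7_15_61 ++ (j7_15_62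 ++ (j7_15_63 ++ (j7_15_64 ++ (j7_15_65 ++ (j7_15_66 ++ (j7_15_67 ++ (j7_15_68 ++ (j7_15_69 ++ (j7_15_70 ++ (j7_15_71 ++ (j7_15_72 ++ (j7_15_73 ++ (j7_15_74 ++ (j7_15_75 ++ (j7_15_76 ++ (j7_15_77 ++ (j7_15_78 ++ (j7_15_79 ++ (j7_15_80 ++ (j7_15_81 ++ (j7_15_82 ++ (j7_15_83 ++ (j7_15_84 ++ (j7_15_85 ++ (j7_15_86 ++ ([]))))))))))))))))))))))))))))))))))))))))))))))))))))))))))))))))))))))))))))))))))))))))
  (jobs_append t7_15_0 <| jobs_append t7_15_1 <| jobs_append t7_15_2 <| jobs_append t7_15_3 <| jobs_append t7_15_4 <| jobs_append t7_15_5 <| jobs_append t7_15_6 <| jobs_append t7_15_7 <| jobs_append t7_15_8 <| jobs_append t7_15_9 <| jobs_append t7_15_10 <| jobs_append t7_15_11 <| jobs_append t7_15_12 <| jobs_append t7_15_13 <| jobs_append t7_15_14 <| jobs_append t7_15_15 <| jobs_append t7_15_16 <| jobs_append t7_15_17 <| jobs_append t7_15_18 <| jobs_append t7_15_19 <| jobs_append t7_15_20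 <| jobs_append t7_15_21 <| jobs_append t7_15_22 <| jobs_append t7_15_23 <| jobs_append t7_15_24 <| jobs_append t7_15_25 <| jobs_append t7_15_26 <| jobs_append t7_15_27 <| jobs_append t7_15_28 <| jobs_append t7_15_29 <| jobs_append t7_15_30 <| jobs_append t7_15_31 <| jobs_append t7_15_32 <| jobs_append t7_15_33 <| jobs_append t7_15_34 <| jobs_append t7_15_35 <| jobs_append t7_15_36 <| jobs_append t7_15_37 <| jobs_append t7_15_38 <| jobs_append t7_15_39 <| jobs_append t7_15_40 <| jobs_append t7_15_41 <| jobs_append t7_15_42 <| jobs_append t7_15_43 <| jobs_append t7_15_44 <| jobs_append t7_15_45 <| jobs_append t7_15_46 <| jobs_append t7_15_47 <| jobs_append t7_15_48 <| jobs_append t7_15_49 <| jobs_append t7_15_50 <| jobs_append t7_15_51 <| jobs_append t7_15_52 <| jobs_append t7_15_53 <| jobs_append t7_15_54 <| jobs_append t7_15_55 <| jobs_append t7_15_56 <| jobs_append t7_15_57 <| jobs_append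 t7_15_58 <| jobs_append t7_15_59 <| jobs_append t7_15_60 <| jobs_append t7_15_61 <| jobs_append t7_15_62 <| jobs_append t7_15_63 <| jobs_append t7_15_64 <| jobs_append t7_15_65 <| jobs_append t7_15_66 <| jobs_append t7_15_67 <| jobs_append t7_15_68 <| jobs_append t7_15_69 <| jobs_append t7_15_70 <| jobs_append t7_15_71 <| jobs_append t7_15_72 <| jobs_append t7_15_73 <| jobs_append t7_15_74 <| jobs_append t7_15_75 <| jobs_append t7_15_76 <| jobs_append t7_15_77 <| jobs_append t7_15_78 <| jobs_append t7_15_79 <| jobs_append t7_15_80 <| jobs_append t7_15_81 <| jobs_append t7_15_82 <| jobs_append t7_15_83 <| jobs_append t7_15_84 <| jobs_append t7_15_85 <| jobs_append t7_15_86 <| List.forall_mem_nil _) (by decide +kernel)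

theorem d7_16 : Dn L8 b7_16 := dn_of (Js := j7_16_0 ++ (j7_16_1 ++ (j7_16_2 ++ (j7_16_3 ++ (j7_16_4 ++ ([]))))))
  (jobs_append t7_16_0 <| jobs_append t7_16_1 <| jobs_append t7_16_2 <| jobs_append t7_16_3 <| jobs_append t7_16_4 <| List.forall_mem_nil _) (by decide +kernel)

theorem d7_17 : Dn L8 b7_17 := dn_of (Js := j7_17_0 ++ (j7_17_1 ++ (j7_17_2 ++ (j7_17_3 ++ (j7_17_4 ++ ([]))))))
  (jobs_append t7_17_0 <| jobs_append t7_17_1 <| jobs_append t7_17_2 <| jobs_append t7_17_3 <| jobs_append t7_17_4 <| List.forall_mem_nil _) (by decide +kernel)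

theorem d7_18 : Dn L8 b7_18 := dn_of (Js := j7_18_0 ++ (j7_18_1 ++ (j7_18_2 ++ (j7_18_3 ++ (j7_18_4 ++ (j7_18_5 ++ (j7_18_6 ++ (j7_18_7 ++ ([])))))))))
  (jobs_append t7_18_0 <| jobs_append t7_18_1 <| jobs_append t7_18_2 <| jobs_append t7_18_3 <| jobs_append t7_18_4 <| jobs_append t7_18_5 <| jobs_append t7_18_6 <| jobs_append t7_18_7 <| List.forall_mem_nil _) (by decide +kernel)

theorem d7_19 : Dn L8 b7_19 := dn_of (Js := j7_19_0 ++ (j7_19_1 ++ (j7_19_2 ++ (j7_19_3 ++ (j7_19_4 ++ (j7_19_5 ++ (j7_19_6 ++ (j7_19_7 ++ (j7_19_8 ++ (j7_19_9 ++ (j7_19_10 ++ (j7_19_11 ++ (j7_19_12 ++ ([]))))))))))))))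
  (jobs_append t7_19_0 <| jobs_append t7_19_1 <| jobs_append t7_19_2 <| jobs_append t7_19_3 <| jobs_append t7_19_4 <| jobs_append t7_19_5 <| jobs_append t7_19_6 <| jobs_append t7_19_7 <| jobs_append t7_19_8 <| jobs_append t7_19_9 <| jobs_append t7_19_10 <| jobs_append t7_19_11 <| jobs_append t7_19_12 <| List.forall_mem_nil _) (by decide +kernel)

theorem d7_20 : Dn L8 b7_20 := dn_of (Js := j7_20_0 ++ (j7_20_1 ++ (j7_20_2 ++ (j7_20_3 ++ (j7_20_4 ++ ([]))))))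
  (jobs_append t7_20_0 <| jobs_append t7_20_1 <| jobs_append t7_20_2 <| jobs_append t7_20_3 <| jobs_append t7_20_4 <| List.forall_mem_nil _) (by decide +kernel)

theorem d7_21 : Dn L8 b7_21 := dn_of (Js := j7_21_0 ++ (j7_21_1 ++ (j7_21_2 ++ (j7_21_3 ++ (j7_21_4 ++ (j7_21_5 ++ (j7_21_6 ++ (j7_21_7 ++ ([])))))))))
  (jobs_append t7_21_0 <| jobs_append t7_21_1 <| jobs_append t7_21_2 <| jobs_append t7_21_3 <| jobs_append t7_21_4 <| jobs_append t7_21_5 <| jobs_append t7_21_6 <| jobs_append t7_21_7 <| List.forall_mem_nil _) (by decide +kernel)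

theorem d7_22 : Dn L8 b7_22 := dn_of (Js := j7_22_0 ++ (j7_22_1 ++ (j7_22_2 ++ (j7_22_3 ++ (j7_22_4 ++ (j7_22_5 ++ (j7_22_6 ++ (j7_22_7 ++ (j7_22_8 ++ (j7_22_9 ++ (j7_22_10 ++ ([]))))))))))))
  (jobs_append t7_22_0 <| jobs_append t7_22_1 <| jobs_append t7_22_2 <| jobs_append t7_22_3 <| jobs_append t7_22_4 <| jobs_append t7_22_5 <| jobs_append t7_22_6 <| jobs_append t7_22_7 <| jobs_append t7_22_8 <| jobs_append t7_22_9 <| jobs_append t7_22_10 <| List.forall_mem_nil _) (by decide +kernel)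

theorem d7_23 : Dn L8 b7_23 := dn_of (Js := j7_23_0 ++ (j7_23_1 ++ (j7_23_2 ++ (j7_23_3 ++ (j7_23_4 ++ (j7_23_5 ++ (j7_23_6 ++ (j7_23_7 ++ (j7_23_8 ++ (j7_23_9 ++ (j7_23_10 ++ (j7_23_11 ++ ([])))))))))))))
  (jobs_append t7_23_0 <| jobs_append t7_23_1 <| jobs_append t7_23_2 <| jobs_append t7_23_3 <| jobs_append t7_23_4 <| jobs_append t7_23_5 <| jobs_append t7_23_6 <| jobs_append t7_23_7 <| jobs_append t7_23_8 <| jobs_append t7_23_9 <| jobs_append t7_23_10 <| jobs_append t7_23_11 <| List.forall_mem_nil _) (by decide +kernel)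

theorem d7_24 : Dn L8 b7_24 := dn_of (Js := j7_24_0 ++ (j7_24_1 ++ (j7_24_2 ++ (j7_24_3 ++ (j7_24_4 ++ (j7_24_5 ++ (j7_24_6 ++ (j7_24_7 ++ (j7_24_8 ++ (j7_24_9 ++ (j7_24_10 ++ (j7_24_11 ++ ([])))))))))))))
  (jobs_append t7_24_0 <| jobs_append t7_24_1 <| jobs_append t7_24_2 <| jobs_append t7_24_3 <| jobs_append t7_24_4 <| jobs_append t7_24_5 <| jobs_append t7_24_6 <| jobs_append t7_24_7 <| jobs_append t7_24_8 <| jobs_append t7_24_9 <| jobs_append t7_24_10 <| jobs_append t7_24_11 <| List.forall_mem_nil _) (by decide +kernel)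

theorem d7_25 : Dn L8 b7_25 := dn_of (Js := j7_25_0 ++ (j7_25_1 ++ (j7_25_2 ++ (j7_25_3 ++ (j7_25_4 ++ (j7_25_5 ++ (j7_25_6 ++ (j7_25_7 ++ (j7_25_8 ++ (j7_25_9 ++ (j7_25_10 ++ ([]))))))))))))
  (jobs_append t7_25_0 <| jobs_append t7_25_1 <| jobs_append t7_25_2 <| jobs_append t7_25_3 <| jobs_append t7_25_4 <| jobs_append t7_25_5 <| jobs_append t7_25_6 <| jobs_append t7_25_7 <| jobs_append t7_25_8 <| jobs_append t7_25_9 <| jobs_append t7_25_10 <| List.forall_mem_nil _) (by decide +kernel)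

theorem d7_26 : Dn L8 b7_26 := dn_of (Js := j7_26_0 ++ (j7_26_1 ++ (j7_26_2 ++ (j7_26_3 ++ (j7_26_4 ++ (j7_26_5 ++ (j7_26_6 ++ (j7_26_7 ++ (j7_26_8 ++ ([]))))))))))
  (jobs_append t7_26_0 <| jobs_append t7_26_1 <| jobs_append t7_26_2 <| jobs_append t7_26_3 <| jobs_append t7_26_4 <| jobs_append t7_26_5 <| jobs_append t7_26_6 <| jobs_append t7_26_7 <| jobs_append t7_26_8 <| List.forall_mem_nil _) (by decide +kernel)

theorem d7_27 : Dn L8 b7_27 := dn_of (Js := j7_27_0 ++ (j7_27_1 ++ (j7_27_2 ++ (j7_27_3 ++ (j7_27_4 ++ (j7_27_5 ++ (j7_27_6 ++ (j7_27_7 ++ (j7_27_8 ++ (j7_27_9 ++ ([])))))))))))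
  (jobs_append t7_27_0 <| jobs_append t7_27_1 <| jobs_append t7_27_2 <| jobs_append t7_27_3 <| jobs_append t7_27_4 <| jobs_append t7_27_5 <| jobs_append t7_27_6 <| jobs_append t7_27_7 <| jobs_append t7_27_8 <| jobs_append t7_27_9 <| List.forall_mem_nil _) (by decide +kernel)

theorem d7_28 : Dn L8 b7_28 := dn_of (Js := j7_28_0 ++ (j7_28_1 ++ (j7_28_2 ++ (j7_28_3 ++ (j7_28_4 ++ (j7_28_5 ++ ([])))))))
  (jobs_append t7_28_0 <| jobs_append t7_28_1 <| jobs_append t7_28_2 <| jobs_append t7_28_3 <| jobs_append t7_28_4 <| jobs_append t7_28_5 <| List.forall_mem_nil _) (by decide +kernel)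

theorem d7_29 : Dn L8 b7_29 := dn_of (Js := j7_29_0 ++ (j7_29_1 ++ (j7_29_2 ++ (j7_29_3 ++ (j7_29_4 ++ (j7_29_5 ++ (j7_29_6 ++ (j7_29_7 ++ (j7_29_8 ++ (j7_29_9 ++ ([])))))))))))
  (jobs_append t7_29_0 <| jobs_append t7_29_1 <| jobs_append t7_29_2 <| jobs_append t7_29_3 <| jobs_append t7_29_4 <| jobs_append t7_29_5 <| jobs_append t7_29_6 <| jobs_append t7_29_7 <| jobs_append t7_29_8 <| jobs_append t7_29_9 <| List.forall_mem_nil _) (by decide +kernel)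

theorem d7_30 : Dn L8 b7_30 := dn_of (Js := j7_30_0 ++ (j7_30_1 ++ (j7_30_2 ++ (j7_30_3 ++ ([])))))
  (jobs_append t7_30_0 <| jobs_append t7_30_1 <| jobs_append t7_30_2 <| jobs_append t7_30_3 <| List.forall_mem_nil _) (by decide +kernel)

theorem d7_31 : Dn L8 b7_31 := dn_of (Js := j7_31_0 ++ (j7_31_1 ++ (j7_31_2 ++ (j7_31_3 ++ (j7_31_4 ++ (j7_31_5 ++ (j7_31_6 ++ ([]))))))))
  (jobs_append t7_31_0 <| jobs_append t7_31_1 <| jobs_append t7_31_2 <| jobs_append t7_31_3 <| jobs_append t7_31_4 <| jobs_append t7_31_5 <| jobs_append t7_31_6 <| List.forall_mem_nil _) (by decide +kernel)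

theorem d7_32 : Dn L8 b7_32 := dn_of (Js := j7_32_0 ++ (j7_32_1 ++ (j7_32_2 ++ (j7_32_3 ++ (j7_32_4 ++ (j7_32_5 ++ (j7_32_6 ++ ([]))))))))
  (jobs_append t7_32_0 <| jobs_append t7_32_1 <| jobs_append t7_32_2 <| jobs_append t7_32_3 <| jobs_append t7_32_4 <| jobs_append t7_32_5 <| jobs_append t7_32_6 <| List.forall_mem_nil _) (by decide +kernel)

theorem d7_33 : Dn L8 b7_33 := dn_of (Js := j7_33_0 ++ (j7_33_1 ++ (j7_33_2 ++ (j7_33_3 ++ (j7_33_4 ++ (j7_33_5 ++ (j7_33_6 ++ (j7_33_7 ++ (j7_33_8 ++ (j7_33_9 ++ (j7_33_10 ++ (j7_33_11 ++ (j7_33_12 ++ ([]))))))))))))))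
  (jobs_append t7_33_0 <| jobs_append t7_33_1 <| jobs_append t7_33_2 <| jobs_append t7_33_3 <| jobs_append t7_33_4 <| jobs_append t7_33_5 <| jobs_append t7_33_6 <| jobs_append t7_33_7 <| jobs_append t7_33_8 <| jobs_append t7_33_9 <| jobs_append t7_33_10 <| jobs_append t7_33_11 <| jobs_append t7_33_12 <| List.forall_mem_nil _) (by decide +kernel)

theorem d7_34 : Dn L8 b7_34 := dn_of (Js := j7_34_0 ++ (j7_34_1 ++ (j7_34_2 ++ (j7_34_3 ++ (j7_34_4 ++ (j7_34_5 ++ (j7_34_6 ++ (j7_34_7 ++ (j7_34_8 ++ (j7_34_9 ++ (j7_34_10 ++ ([]))))))))))))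
  (jobs_append t7_34_0 <| jobs_append t7_34_1 <| jobs_append t7_34_2 <| jobs_append t7_34_3 <| jobs_append t7_34_4 <| jobs_append t7_34_5 <| jobs_append t7_34_6 <| jobs_append t7_34_7 <| jobs_append t7_34_8 <| jobs_append t7_34_9 <| jobs_append t7_34_10 <| List.forall_mem_nil _) (by decide +kernel)

theorem d7_35 : Dn L8 b7_35 := dn_of (Js := j7_35_0 ++ (j7_35_1 ++ (j7_35_2 ++ (j7_35_3 ++ (j7_35_4 ++ (j7_35_5 ++ (j7_35_6 ++ (j7_35_7 ++ (j7_35_8 ++ (j7_35_9 ++ (j7_35_10 ++ ([]))))))))))))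
  (jobs_append t7_35_0 <| jobs_append t7_35_1 <| jobs_append t7_35_2 <| jobs_append t7_35_3 <| jobs_append t7_35_4 <| jobs_append t7_35_5 <| jobs_append t7_35_6 <| jobs_append t7_35_7 <| jobs_append t7_35_8 <| jobs_append t7_35_9 <| jobs_append t7_35_10 <| List.forall_mem_nil _) (by decide +kernel)

theorem d7_36 : Dn L8 b7_36 := dn_of (Js := j7_36_0 ++ (j7_36_1 ++ (j7_36_2 ++ (j7_36_3 ++ (j7_36_4 ++ (j7_36_5 ++ ([])))))))
  (jobs_append t7_36_0 <| jobs_append t7_36_1 <| jobs_append t7_36_2 <| jobs_append t7_36_3 <| jobs_append t7_36_4 <| jobs_append t7_36_5 <| List.forall_mem_nil _) (by decide +kernel)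

theorem d7_37 : Dn L8 b7_37 := dn_of (Js := j7_37_0 ++ (j7_37_1 ++ (j7_37_2 ++ (j7_37_3 ++ (j7_37_4 ++ (j7_37_5 ++ (j7_37_6 ++ (j7_37_7 ++ (j7_37_8 ++ ([]))))))))))
  (jobs_append t7_37_0 <| jobs_append t7_37_1 <| jobs_append t7_37_2 <| jobs_append t7_37_3 <| jobs_append t7_37_4 <| jobs_append t7_37_5 <| jobs_append t7_37_6 <| jobs_append t7_37_7 <| jobs_append t7_37_8 <| List.forall_mem_nil _) (by decide +kernel)

theorem d7_38 : Dn L8 b7_38 := dn_of (Js := j7_38_0 ++ (j7_38_1 ++ (j7_38_2 ++ (j7_38_3 ++ (j7_38_4 ++ (j7_38_5 ++ (j7_38_6 ++ (j7_38_7 ++ ([])))))))))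
  (jobs_append t7_38_0 <| jobs_append t7_38_1 <| jobs_append t7_38_2 <| jobs_append t7_38_3 <| jobs_append t7_38_4 <| jobs_append t7_38_5 <| jobs_append t7_38_6 <| jobs_append t7_38_7 <| List.forall_mem_nil _) (by decide +kernel)

theorem d7_39 : Dn L8 b7_39 := dn_of (Js := j7_39_0 ++ (j7_39_1 ++ (j7_39_2 ++ (j7_39_3 ++ (j7_39_4 ++ (j7_39_5 ++ (j7_39_6 ++ ([]))))))))
  (jobs_append t7_39_0 <| jobs_append t7_39_1 <| jobs_append t7_39_2 <| jobs_append t7_39_3 <| jobs_append t7_39_4 <| jobs_append t7_39_5 <| jobs_append t7_39_6 <| List.forall_mem_nil _) (by decide +kernel)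

theorem d7_40 : Dn L8 b7_40 := dn_of (Js := j7_40_0 ++ (j7_40_1 ++ (j7_40_2 ++ (j7_40_3 ++ (j7_40_4 ++ (j7_40_5 ++ (j7_40_6 ++ (j7_40_7 ++ ([])))))))))
  (jobs_append t7_40_0 <| jobs_append t7_40_1 <| jobs_append t7_40_2 <| jobs_append t7_40_3 <| jobs_append t7_40_4 <| jobs_append t7_40_5 <| jobs_append t7_40_6 <| jobs_append t7_40_7 <| List.forall_mem_nil _) (by decide +kernel)

theorem d7_41 : Dn L8 b7_41 := dn_of (Js := j7_41_0 ++ (j7_41_1 ++ (j7_41_2 ++ (j7_41_3 ++ (j7_41_4 ++ (j7_41_5 ++ (j7_41_6 ++ ([]))))))))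
  (jobs_append t7_41_0 <| jobs_append t7_41_1 <| jobs_append t7_41_2 <| jobs_append t7_41_3 <| jobs_append t7_41_4 <| jobs_append t7_41_5 <| jobs_append t7_41_6 <| List.forall_mem_nil _) (by decide +kernel)

theorem d7_42 : Dn L8 b7_42 := dn_of (Js := j7_42_0 ++ (j7_42_1 ++ ([])))
  (jobs_append t7_42_0 <| jobs_append t7_42_1 <| List.forall_mem_nil _) (by decide +kernel)

theorem d7_43 : Dn L8 b7_43 := dn_of (Js := j7_43_0 ++ (j7_43_1 ++ ([])))
  (jobs_append t7_43_0 <| jobs_append t7_43_1 <| List.forall_mem_nil _) (by decide +kernel)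

theorem d7_44 : Dn L8 b7_44 := dn_of (Js := j7_44_0 ++ (j7_44_1 ++ ([])))
  (jobs_append t7_44_0 <| jobs_append t7_44_1 <| List.forall_mem_nil _) (by decide +kernel)

theorem d7_45 : Dn L8 b7_45 := dn_of (Js := j7_45_0 ++ (j7_45_1 ++ (j7_45_2 ++ ([]))))
  (jobs_append t7_45_0 <| jobs_append t7_45_1 <| jobs_append t7_45_2 <| List.forall_mem_nil _) (by decide +kernel)

theorem d7_46 : Dn L8 b7_46 := dn_of (Js := j7_46_0 ++ (j7_46_1 ++ (j7_46_2 ++ (j7_46_3 ++ (j7_46_4 ++ (j7_46_5 ++ (j7_46_6 ++ (j7_46_7 ++ (j7_46_8 ++ ([]))))))))))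
  (jobs_append t7_46_0 <| jobs_append t7_46_1 <| jobs_append t7_46_2 <| jobs_append t7_46_3 <| jobs_append t7_46_4 <| jobs_append t7_46_5 <| jobs_append t7_46_6 <| jobs_append t7_46_7 <| jobs_append t7_46_8 <| List.forall_mem_nil _) (by decide +kernel)

theorem d7_47 : Dn L8 b7_47 := dn_of (Js := j7_47_0 ++ (j7_47_1 ++ (j7_47_2 ++ (j7_47_3 ++ (j7_47_4 ++ (j7_47_5 ++ (j7_47_6 ++ (j7_47_7 ++ (j7_47_8 ++ ([]))))))))))
  (jobs_append t7_47_0 <| jobs_append t7_47_1 <| jobs_append t7_47_2 <| jobs_append t7_47_3 <| jobs_append t7_47_4 <| jobs_append t7_47_5 <| jobs_append t7_47_6 <| jobs_append t7_47_7 <| jobs_append t7_47_8 <| List.forall_mem_nil _) (by decide +kernel)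

theorem d7_48 : Dn L8 b7_48 := dn_of (Js := j7_48_0 ++ (j7_48_1 ++ (j7_48_2 ++ (j7_48_3 ++ (j7_48_4 ++ (j7_48_5 ++ (j7_48_6 ++ (j7_48_7 ++ (j7_48_8 ++ (j7_48_9 ++ (j7_48_10 ++ (j7_48_11 ++ (j7_48_12 ++ (j7_48_13 ++ ([])))))))))))))))
  (jobs_append t7_48_0 <| jobs_append t7_48_1 <| jobs_append t7_48_2 <| jobs_append t7_48_3 <| jobs_append t7_48_4 <| jobs_append t7_48_5 <| jobs_append t7_48_6 <| jobs_append t7_48_7 <| jobs_append t7_48_8 <| jobs_append t7_48_9 <| jobs_append t7_48_10 <| jobs_append t7_48_11 <| jobs_append t7_48_12 <| jobs_append t7_48_13 <| List.forall_mem_nil _) (by decide +kernel)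

theorem d7_49 : Dn L8 b7_49 := dn_of (Js := j7_49_0 ++ (j7_49_1 ++ (j7_49_2 ++ (j7_49_3 ++ (j7_49_4 ++ (j7_49_5 ++ (j7_49_6 ++ (j7_49_7 ++ (j7_49_8 ++ (j7_49_9 ++ (j7_49_10 ++ (j7_49_11 ++ ([])))))))))))))
  (jobs_append t7_49_0 <| jobs_append t7_49_1 <| jobs_append t7_49_2 <| jobs_append t7_49_3 <| jobs_append t7_49_4 <| jobs_append t7_49_5 <| jobs_append t7_49_6 <| jobs_append t7_49_7 <| jobs_append t7_49_8 <| jobs_append t7_49_9 <| jobs_append t7_49_10 <| jobs_append t7_49_11 <| List.forall_mem_nil _) (by decide +kernel)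

theorem d7_50 : Dn L8 b7_50 := dn_of (Js := j7_50_0 ++ (j7_50_1 ++ (j7_50_2 ++ (j7_50_3 ++ (j7_50_4 ++ (j7_50_5 ++ (j7_50_6 ++ (j7_50_7 ++ (j7_50_8 ++ (j7_50_9 ++ (j7_50_10 ++ (j7_50_11 ++ (j7_50_12 ++ ([]))))))))))))))
  (jobs_append t7_50_0 <| jobs_append t7_50_1 <| jobs_append t7_50_2 <| jobs_append t7_50_3 <| jobs_append t7_50_4 <| jobs_append t7_50_5 <| jobs_append t7_50_6 <| jobs_append t7_50_7 <| jobs_append t7_50_8 <| jobs_append t7_50_9 <| jobs_append t7_50_10 <| jobs_append t7_50_11 <| jobs_append t7_50_12 <| List.forall_mem_nil _) (by decide +kernel)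

theorem d7_51 : Dn L8 b7_51 := dn_of (Js := j7_51_0 ++ (j7_51_1 ++ (j7_51_2 ++ (j7_51_3 ++ (j7_51_4 ++ (j7_51_5 ++ (j7_51_6 ++ (j7_51_7 ++ ([])))))))))
  (jobs_append t7_51_0 <| jobs_append t7_51_1 <| jobs_append t7_51_2 <| jobs_append t7_51_3 <| jobs_append t7_51_4 <| jobs_append t7_51_5 <| jobs_append t7_51_6 <| jobs_append t7_51_7 <| List.forall_mem_nil _) (by decide +kernel)

theorem d7_52 : Dn L8 b7_52 := dn_of (Js := j7_52_0 ++ (j7_52_1 ++ (j7_52_2 ++ (j7_52_3 ++ (j7_52_4 ++ ([]))))))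
  (jobs_append t7_52_0 <| jobs_append t7_52_1 <| jobs_append t7_52_2 <| jobs_append t7_52_3 <| jobs_append t7_52_4 <| List.forall_mem_nil _) (by decide +kernel)

theorem d7_53 : Dn L8 b7_53 := dn_of (Js := j7_53_0 ++ (j7_53_1 ++ (j7_53_2 ++ (j7_53_3 ++ (j7_53_4 ++ (j7_53_5 ++ ([])))))))
  (jobs_append t7_53_0 <| jobs_append t7_53_1 <| jobs_append t7_53_2 <| jobs_append t7_53_3 <| jobs_append t7_53_4 <| jobs_append t7_53_5 <| List.forall_mem_nil _) (by decide +kernel)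

theorem d7_54 : Dn L8 b7_54 := dn_of (Js := j7_54_0 ++ (j7_54_1 ++ (j7_54_2 ++ (j7_54_3 ++ (j7_54_4 ++ ([]))))))
  (jobs_append t7_54_0 <| jobs_append t7_54_1 <| jobs_append t7_54_2 <| jobs_append t7_54_3 <| jobs_append t7_54_4 <| List.forall_mem_nil _) (by decide +kernel)

theorem d7_55 : Dn L8 b7_55 := dn_of (Js := j7_55_0 ++ (j7_55_1 ++ (j7_55_2 ++ ([]))))
  (jobs_append t7_55_0 <| jobs_append t7_55_1 <| jobs_append t7_55_2 <| List.forall_mem_nil _) (by decide +kernel)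

theorem d7_56 : Dn L8 b7_56 := dn_of (Js := j7_56_0 ++ (j7_56_1 ++ (j7_56_2 ++ ([]))))
  (jobs_append t7_56_0 <| jobs_append t7_56_1 <| jobs_append t7_56_2 <| List.forall_mem_nil _) (by decide +kernel)

theorem d7_57 : Dn L8 b7_57 := dn_of (Js := j7_57_0 ++ (j7_57_1 ++ (j7_57_2 ++ ([]))))
  (jobs_append t7_57_0 <| jobs_append t7_57_1 <| jobs_append t7_57_2 <| List.forall_mem_nil _) (by decide +kernel)

theorem d7_58 : Dn L8 b7_58 := dn_of (Js := j7_58_0 ++ (j7_58_1 ++ ([])))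
  (jobs_append t7_58_0 <| jobs_append t7_58_1 <| List.forall_mem_nil _) (by decide +kernel)

theorem d7_59 : Dn L8 b7_59 := dn_of (Js := j7_59_0 ++ (j7_59_1 ++ (j7_59_2 ++ ([]))))
  (jobs_append t7_59_0 <| jobs_append t7_59_1 <| jobs_append t7_59_2 <| List.forall_mem_nil _) (by decide +kernel)

theorem d7_60 : Dn L8 b7_60 := dn_of (Js := j7_60_0 ++ (j7_60_1 ++ ([])))
  (jobs_append t7_60_0 <| jobs_append t7_60_1 <| List.forall_mem_nil _) (by decide +kernel)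

theorem d7_61 : Dn L8 b7_61 := dn_of (Js := j7_61_0 ++ (j7_61_1 ++ ([])))
  (jobs_append t7_61_0 <| jobs_append t7_61_1 <| List.forall_mem_nil _) (by decide +kernel)

theorem d7_62 : Dn L8 b7_62 := dn_of (Js := j7_62_0 ++ (j7_62_1 ++ ([])))
  (jobs_append t7_62_0 <| jobs_append t7_62_1 <| List.forall_mem_nil _) (by decide +kernel)

theorem d7_63 : Dn L8 b7_63 := dn_of (Js := j7_63_0 ++ (j7_63_1 ++ (j7_63_2 ++ ([]))))
  (jobs_append t7_63_0 <| jobs_append t7_63_1 <| jobs_append t7_63_2 <| List.forall_mem_nil _) (by decide +kernel)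

theorem d7_64 : Dn L8 b7_64 := dn_of (Js := j7_64_0 ++ (j7_64_1 ++ ([])))
  (jobs_append t7_64_0 <| jobs_append t7_64_1 <| List.forall_mem_nil _) (by decide +kernel)

theorem d7_65 : Dn L8 b7_65 := dn_of (Js := j7_65_0 ++ (j7_65_1 ++ ([])))
  (jobs_append t7_65_0 <| jobs_append t7_65_1 <| List.forall_mem_nil _) (by decide +kernel)

theorem d7_66 : Dn L8 b7_66 := dn_of (Js := j7_66_0 ++ (j7_66_1 ++ ([])))
  (jobs_append t7_66_0 <| jobs_append t7_66_1 <| List.forall_mem_nil _) (by decide +kernel)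

theorem d7_67 : Dn L8 b7_67 := dn_of (Js := j7_67_0 ++ (j7_67_1 ++ (j7_67_2 ++ (j7_67_3 ++ (j7_67_4 ++ ([]))))))
  (jobs_append t7_67_0 <| jobs_append t7_67_1 <| jobs_append t7_67_2 <| jobs_append t7_67_3 <| jobs_append t7_67_4 <| List.forall_mem_nil _) (by decide +kernel)

theorem d7_68 : Dn L8 b7_68 := dn_of (Js := j7_68_0 ++ (j7_68_1 ++ (j7_68_2 ++ (j7_68_3 ++ ([])))))
  (jobs_append t7_68_0 <| jobs_append t7_68_1 <| jobs_append t7_68_2 <| jobs_append t7_68_3 <| List.forall_mem_nil _) (by decide +kernel)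

theorem d7_69 : Dn L8 b7_69 := dn_of (Js := j7_69_0 ++ (j7_69_1 ++ (j7_69_2 ++ ([]))))
  (jobs_append t7_69_0 <| jobs_append t7_69_1 <| jobs_append t7_69_2 <| List.forall_mem_nil _) (by decide +kernel)

theorem d7_70 : Dn L8 b7_70 := dn_of (Js := j7_70_0 ++ (j7_70_1 ++ (j7_70_2 ++ ([]))))
  (jobs_append t7_70_0 <| jobs_append t7_70_1 <| jobs_append t7_70_2 <| List.forall_mem_nil _) (by decide +kernel)

theorem d7_71 : Dn L8 b7_71 := dn_of (Js := j7_71_0 ++ (j7_71_1 ++ (j7_71_2 ++ ([]))))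
  (jobs_append t7_71_0 <| jobs_append t7_71_1 <| jobs_append t7_71_2 <| List.forall_mem_nil _) (by decide +kernel)

theorem d7_72 : Dn L8 b7_72 := dn_of (Js := j7_72_0 ++ (j7_72_1 ++ ([])))
  (jobs_append t7_72_0 <| jobs_append t7_72_1 <| List.forall_mem_nil _) (by decide +kernel)

theorem d7_73 : Dn L8 b7_73 := dn_of (Js := j7_73_0 ++ (j7_73_1 ++ ([])))
  (jobs_append t7_73_0 <| jobs_append t7_73_1 <| List.forall_mem_nil _) (by decide +kernel)

theorem d7_74 : Dn L8 b7_74 := dn_of (Js := j7_74_0 ++ (j7_74_1 ++ ([])))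
  (jobs_append t7_74_0 <| jobs_append t7_74_1 <| List.forall_mem_nil _) (by decide +kernel)

theorem d7_75 : Dn L8 b7_75 := dn_of (Js := j7_75_0 ++ ([]))
  (jobs_append t7_75_0 <| List.forall_mem_nil _) (by decide +kernel)

theorem d7_76 : Dn L8 b7_76 := dn_of (Js := j7_76_0 ++ ([]))
  (jobs_append t7_76_0 <| List.forall_mem_nil _) (by decide +kernel)

theorem d7_77 : Dn L8 b7_77 := dn_of (Js := j7_77_0 ++ (j7_77_1 ++ ([])))
  (jobs_append t7_77_0 <| jobs_append t7_77_1 <| List.forall_mem_nil _) (by decide +kernel)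

theorem d7_78 : Dn L8 b7_78 := dn_of (Js := j7_78_0 ++ (j7_78_1 ++ ([])))
  (jobs_append t7_78_0 <| jobs_append t7_78_1 <| List.forall_mem_nil _) (by decide +kernel)

theorem d7_79 : Dn L8 b7_79 := dn_of (Js := j7_79_0 ++ (j7_79_1 ++ ([])))
  (jobs_append t7_79_0 <| jobs_append t7_79_1 <| List.forall_mem_nil _) (by decide +kernel)

theorem d7_80 : Dn L8 b7_80 := dn_of (Js := j7_80_0 ++ (j7_80_1 ++ ([])))
  (jobs_append t7_80_0 <| jobs_append t7_80_1 <| List.forall_mem_nil _) (by decide +kernel)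

theorem d7_81 : Dn L8 b7_81 := dn_of (Js := j7_81_0 ++ ([]))
  (jobs_append t7_81_0 <| List.forall_mem_nil _) (by decide +kernel)

theorem d7_82 : Dn L8 b7_82 := dn_of (Js := j7_82_0 ++ ([]))
  (jobs_append t7_82_0 <| List.forall_mem_nil _) (by decide +kernel)

theorem dn7 : ∀ l ∈ L7, Dn L8 l :=
  fa_cons d7_0 <|
  fa_cons d7_1 <|
  fa_cons d7_2 <|
  fa_cons d7_3 <|
  fa_cons d7_4 <|
  fa_cons d7_5 <|
  fa_cons d7_6 <|
  fa_cons d7_7 <|
  fa_cons d7_8 <|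
  fa_cons d7_9 <|
  fa_cons d7_10 <|
  fa_cons d7_11 <|
  fa_cons d7_12 <|
  fa_cons d7_13 <|
  fa_cons d7_14 <|
  fa_cons d7_15 <|
  fa_cons d7_16 <|
  fa_cons d7_17 <|
  fa_cons d7_18 <|
  fa_cons d7_19 <|
  fa_cons d7_20 <|
  fa_cons d7_21 <|
  fa_cons d7_22 <|
  fa_cons d7_23 <|
  fa_cons d7_24 <|
  fa_cons d7_25 <|
  fa_cons d7_26 <|
  fa_cons d7_27 <|
  fa_cons d7_28 <|
  fa_cons d7_29 <|
  fa_cons d7_30 <|
  fa_cons d7_31 <|
  fa_cons d7_32 <|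
  fa_cons d7_33 <|
  fa_cons d7_34 <|
  fa_cons d7_35 <|
  fa_cons d7_36 <|
  fa_cons d7_37 <|
  fa_cons d7_38 <|
  fa_cons d7_39 <|
  fa_cons d7_40 <|
  fa_cons d7_41 <|
  fa_cons d7_42 <|
  fa_cons d7_43 <|
  fa_cons d7_44 <|
  fa_cons d7_45 <|
  fa_cons d7_46 <|
  fa_cons d7_47 <|
  fa_cons d7_48 <|
  fa_cons d7_49 <|
  fa_cons d7_50 <|
  fa_cons d7_51 <|
  fa_cons d7_52 <|
  fa_cons d7_53 <|
  fa_cons d7_54 <|
  fa_cons d7_55 <|
  fa_cons d7_56 <|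
  fa_cons d7_57 <|
  fa_cons d7_58 <|
  fa_cons d7_59 <|
  fa_cons d7_60 <|
  fa_cons d7_61 <|
  fa_cons d7_62 <|
  fa_cons d7_63 <|
  fa_cons d7_64 <|
  fa_cons d7_65 <|
  fa_cons d7_66 <|
  fa_cons d7_67 <|
  fa_cons d7_68 <|
  fa_cons d7_69 <|
  fa_cons d7_70 <|
  fa_cons d7_71 <|
  fa_cons d7_72 <|
  fa_cons d7_73 <|
  fa_cons d7_74 <|
  fa_cons d7_75 <|
  fa_cons d7_76 <|
  fa_cons d7_77 <|
  fa_cons d7_78 <|
  fa_cons d7_79 <|
  fa_cons d7_80 <|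
  fa_cons d7_81 <|
  fa_cons d7_82 <|
  List.forall_mem_nil _

end Cfsg.Agent.FS.N.G
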