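import Cfsg.Agent.FS.N.G.L.L00
import Cfsg.Agent.FS.N.G.L.L01
import Cfsg.Agent.FS.N.G.L.L02
import Cfsg.Agent.FS.N.G.L.L03
import Cfsg.Agent.FS.N.G.L.L04
import Cfsg.Agent.FS.N.G.L.L05
import Cfsg.Agent.FS.N.G.L.L06
import Cfsg.Agent.FS.N.G.L.L07
import Cfsg.Agent.FS.N.G.L.L08
import Cfsg.Agent.FS.N.G.L.L09
import Cfsg.Agent.FS.N.G.L.L10
import Cfsg.Agent.FS.N.G.L.L11
import Cfsg.Agent.FS.N.G.L.L12
import Cfsg.Agent.FS.N.G.L.L13
import Cfsg.Agent.FS.N.G.L.L14
import Cfsg.Agent.FS.N.G.L.L15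
import Cfsg.Agent.FS.N.G.L.L16
import Cfsg.Agent.FS.N.G.L.L17
import Cfsg.Agent.FS.N.G.L.L18
import Cfsg.Agent.FS.N.G.L.L19
import Cfsg.Agent.FS.N.G.L.L20
import Cfsg.Agent.FS.N.G.L.L21
import Cfsg.Agent.FS.N.G.L.L22
import Cfsg.Agent.FS.N.G.L.L23
import Cfsg.Agent.FS.N.G.L.L24
import Cfsg.Agent.FS.N.G.L.L25
import Cfsg.Agent.FS.N.G.L.L26
import Cfsg.Agent.FS.N.G.L.L27
import Cfsg.Agent.FS.N.G.L.L28
import Cfsg.Agent.FS.N.G.L.L29
import Cfsg.Agent.FS.N.G.L.L30
import Cfsg.Agent.FS.N.G.L.L31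
import Cfsg.Agent.FS.N.G.L.L32
import Cfsg.Agent.FS.N.G.L.L33
import Cfsg.Agent.FS.N.G.L.L34
import Cfsg.Agent.FS.N.G.L.L35

/-! Groups of order 256 as bases (generated; helper49, project FS) -/

set_option autoImplicit false
set_option maxRecDepth 100000
set_option Elab.async false

namespace Cfsg.Agent.FS.N.G

noncomputable def L8 : List (List Pc.Base) := [b8_0, b8_1, b8_2, b8_3, b8_4, b8_5, b8_6, b8_7, b8_8, b8_9, b8_10, b8_11, b8_12, b8_13, b8_14, b8_15, b8_16, b8_17, b8_18, b8_19, b8_20, b8_21, b8_22, b8_23, b8_24, b8_25, b8_26, b8_27, b8_28, b8_29, b8_30, b8_31, b8_32, b8_33, b8_34, b8_35, b8_36, b8_37, b8_38, b8_39, b8_40, b8_41, b8_42, b8_43, b8_44, b8_45, b8_46, b8_47, b8_48, b8_49, b8_50, b8_51, b8_52, b8_53, b8_54, b8_55, b8_56, b8_57, b8_58, b8_59, b8_60, b8_61, b8_62, b8_63, b8_64, b8_65, b8_66, b8_67, b8_68, b8_69, b8_70, b8_71, b8_72, b8_73, b8_74, b8_75, b8_76, b8_77, b8_78, b8_79, b8_80, b8_81, b8_82,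 b8_83, b8_84, b8_85, b8_86, b8_87, b8_88, b8_89, b8_90, b8_91, b8_92, b8_93, b8_94, b8_95, b8_96, b8_97, b8_98, b8_99, b8_100, b8_101, b8_102, b8_103, b8_104, b8_105, b8_106, b8_107, b8_108, b8_109, b8_110, b8_111, b8_112, b8_113, b8_114, b8_115, b8_116, b8_117, b8_118, b8_119, b8_120, b8_121, b8_122, b8_123, b8_124, b8_125, b8_126, b8_127, b8_128, b8_129, b8_130, b8_131, b8_132, b8_133, b8_134, b8_135, b8_136, b8_137, b8_138, b8_139, b8_140, b8_141, b8_142, b8_143, b8_144, b8_145, b8_146, b8_147, b8_148, b8_149, b8_150, b8_151, b8_152, b8_153, b8_154, b8_155, b8_156, b8_157, b8_158, b8_159, b8_160, b8_161, b8_162, b8_163, b8_164, b8_165, b8_166, b8_167, b8_168, b8_169, b8_170, b8_171, b8_172, b8_173, b8_174, b8_175, b8_176, b8_177, b8_178, b8_179, b8_180, b8_181, b8_182, b8_183, b8_184, b8_185, b8_186, b8_187, b8_188, b8_189, b8_190, b8_191, b8_192, b8_193, b8_194, b8_195, b8_196, b8_197, b8_198, b8_199, b8_200, b8_201,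 b8_202, b8_203, b8_204, b8_205, b8_206, b8_207, b8_208, b8_209, b8_210, b8_211, b8_212, b8_213, b8_214, b8_215, b8_216, b8_217, b8_218, b8_219, b8_220, b8_221, b8_222, b8_223, b8_224, b8_225, b8_226, b8_227, b8_228, b8_229, b8_230, b8_231, b8_232, b8_233, b8_234, b8_235, b8_236, b8_237, b8_238, b8_239, b8_240, b8_241, b8_242, b8_243, b8_244, b8_245, b8_246, b8_247, b8_248, b8_249, b8_250, b8_251, b8_252, b8_253, b8_254, b8_255, b8_256, b8_257, b8_258, b8_259, b8_260, b8_261, b8_262, b8_263, b8_264, b8_265, b8_266, b8_267, b8_268, b8_269, b8_270, b8_271, b8_272, b8_273, b8_274, b8_275, b8_276, b8_277, b8_278, b8_279, b8_280, b8_281, b8_282, b8_283, b8_284, b8_285, b8_286, b8_287, b8_288, b8_289, b8_290, b8_291, b8_292, b8_293, b8_294, b8_295, b8_296, b8_297, b8_298, b8_299, b8_300, b8_301, b8_302, b8_303, b8_304, b8_305, b8_306, b8_307, b8_308, b8_309, b8_310, b8_311, b8_312, b8_313, b8_314, b8_315, b8_316, b8_317, b8_318,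 b8_319, b8_320, b8_321, b8_322, b8_323, b8_324, b8_325, b8_326, b8_327, b8_328, b8_329, b8_330, b8_331, b8_332, b8_333, b8_334, b8_335, b8_336, b8_337, b8_338, b8_339, b8_340, b8_341, b8_342, b8_343, b8_344, b8_345, b8_346, b8_347, b8_348, b8_349, b8_350, b8_351, b8_352, b8_353, b8_354, b8_355, b8_356, b8_357, b8_358, b8_359, b8_360, b8_361, b8_362, b8_363, b8_364, b8_365, b8_366, b8_367, b8_368, b8_369, b8_370, b8_371, b8_372, b8_373, b8_374, b8_375, b8_376, b8_377, b8_378, b8_379, b8_380, b8_381, b8_382, b8_383, b8_384, b8_385, b8_386, b8_387, b8_388, b8_389, b8_390, b8_391, b8_392, b8_393, b8_394, b8_395, b8_396, b8_397, b8_398, b8_399, b8_400, b8_401, b8_402, b8_403, b8_404, b8_405, b8_406, b8_407, b8_408, b8_409, b8_410, b8_411, b8_412, b8_413, b8_414, b8_415, b8_416, b8_417, b8_418, b8_419, b8_420, b8_421, b8_422, b8_423, b8_424, b8_425, b8_426, b8_427, b8_428, b8_429, b8_430, b8_431, b8_432, b8_433, b8_434, b8_435,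 b8_436, b8_437, b8_438, b8_439, b8_440, b8_441, b8_442, b8_443, b8_444, b8_445, b8_446, b8_447, b8_448, b8_449, b8_450, b8_451, b8_452, b8_453, b8_454, b8_455, b8_456, b8_457, b8_458, b8_459, b8_460, b8_461, b8_462, b8_463, b8_464, b8_465, b8_466, b8_467, b8_468, b8_469, b8_470, b8_471, b8_472, b8_473, b8_474, b8_475, b8_476, b8_477, b8_478, b8_479, b8_480, b8_481, b8_482, b8_483, b8_484, b8_485, b8_486, b8_487, b8_488, b8_489, b8_490, b8_491, b8_492, b8_493, b8_494, b8_495, b8_496, b8_497, b8_498, b8_499, b8_500, b8_501, b8_502, b8_503, b8_504, b8_505, b8_506, b8_507, b8_508, b8_509, b8_510, b8_511, b8_512, b8_513, b8_514, b8_515, b8_516, b8_517, b8_518, b8_519, b8_520, b8_521, b8_522, b8_523, b8_524, b8_525, b8_526, b8_527, b8_528, b8_529, b8_530, b8_531, b8_532, b8_533, b8_534, b8_535, b8_536, b8_537, b8_538, b8_539, b8_540, b8_541, b8_542, b8_543, b8_544, b8_545, b8_546, b8_547, b8_548, b8_549, b8_550, b8_551, b8_552,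 b8_553, b8_554, b8_555, b8_556, b8_557, b8_558, b8_559, b8_560, b8_561, b8_562, b8_563, b8_564, b8_565, b8_566, b8_567, b8_568, b8_569, b8_570, b8_571, b8_572, b8_573, b8_574, b8_575, b8_576, b8_577, b8_578, b8_579, b8_580, b8_581, b8_582, b8_583, b8_584, b8_585, b8_586, b8_587, b8_588, b8_589, b8_590, b8_591, b8_592, b8_593, b8_594, b8_595, b8_596, b8_597, b8_598, b8_599, b8_600, b8_601, b8_602, b8_603, b8_604, b8_605, b8_606, b8_607, b8_608, b8_609, b8_610, b8_611, b8_612, b8_613, b8_614, b8_615, b8_616, b8_617, b8_618, b8_619, b8_620, b8_621, b8_622, b8_623, b8_624, b8_625, b8_626, b8_627, b8_628, b8_629, b8_630, b8_631, b8_632, b8_633, b8_634, b8_635, b8_636, b8_637, b8_638, b8_639, b8_640, b8_641, b8_642, b8_643, b8_644, b8_645, b8_646, b8_647, b8_648, b8_649, b8_650, b8_651, b8_652, b8_653, b8_654, b8_655, b8_656, b8_657, b8_658, b8_659, b8_660, b8_661, b8_662, b8_663, b8_664, b8_665, b8_666, b8_667, b8_668, b8_669,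 b8_670, b8_671, b8_672, b8_673, b8_674, b8_675, b8_676, b8_677, b8_678, b8_679, b8_680, b8_681, b8_682, b8_683, b8_684, b8_685, b8_686, b8_687, b8_688, b8_689, b8_690, b8_691, b8_692, b8_693, b8_694, b8_695, b8_696, b8_697, b8_698, b8_699, b8_700, b8_701, b8_702, b8_703, b8_704, b8_705, b8_706, b8_707, b8_708, b8_709, b8_710, b8_711, b8_712, b8_713, b8_714, b8_715, b8_716, b8_717, b8_718, b8_719, b8_720, b8_721, b8_722, b8_723, b8_724, b8_725, b8_726, b8_727, b8_728, b8_729, b8_730, b8_731, b8_732, b8_733, b8_734, b8_735, b8_736, b8_737, b8_738, b8_739, b8_740, b8_741, b8_742, b8_743, b8_744, b8_745, b8_746, b8_747, b8_748, b8_749, b8_750, b8_751, b8_752, b8_753, b8_754, b8_755, b8_756, b8_757, b8_758, b8_759, b8_760, b8_761, b8_762, b8_763, b8_764, b8_765, b8_766, b8_767, b8_768, b8_769, b8_770, b8_771, b8_772, b8_773, b8_774, b8_775, b8_776, b8_777, b8_778, b8_779, b8_780, b8_781, b8_782, b8_783, b8_784, b8_785, b8_786,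 b8_787, b8_788, b8_789, b8_790, b8_791, b8_792, b8_793, b8_794, b8_795, b8_796, b8_797, b8_798, b8_799, b8_800, b8_801, b8_802, b8_803, b8_804, b8_805, b8_806, b8_807, b8_808, b8_809, b8_810, b8_811, b8_812, b8_813, b8_814, b8_815, b8_816, b8_817, b8_818, b8_819, b8_820, b8_821, b8_822, b8_823, b8_824, b8_825, b8_826, b8_827, b8_828, b8_829, b8_830, b8_831, b8_832, b8_833, b8_834, b8_835, b8_836, b8_837, b8_838, b8_839, b8_840, b8_841, b8_842, b8_843, b8_844, b8_845, b8_846, b8_847, b8_848, b8_849, b8_850, b8_851, b8_852, b8_853, b8_854, b8_855, b8_856, b8_857, b8_858, b8_859, b8_860, b8_861, b8_862, b8_863, b8_864, b8_865, b8_866, b8_867, b8_868, b8_869, b8_870, b8_871, b8_872, b8_873, b8_874, b8_875]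

end Cfsg.Agent.FS.N.G
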