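import Cfsg.Agent.FS.N.G.Old

/-!
# S5288: the list at the order `2 ^ 9`, the levels from the lists and the claims, a test for inclusion of lists
(helper97, project FS)
-/

set_option autoImplicit false

namespace Cfsg.Agent.FS.N

/-! ### glue -/

theorem Lev.mono {n : ℕ} {L L' : List Ent} (h : Lev n L) (hL : ∀ p ∈ L, p ∈ L') : Lev n L' := fun A _ _ hA F hF => by
  obtain ⟨p, hp, h1⟩ := h A hA F hF
  exact ⟨p, hL p hp, h1⟩

theorem ClC.mono {n R : ℕ} {c : ∀ (A : Type) [Group A], Sys A → Prop} {L L' : List Ent} (h : ClC n R c L)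
    (hL : ∀ p ∈ L, p ∈ L') : ClC n R c L' := fun A _ y F hy hF hc => by
  obtain ⟨p, hp, h1⟩ := h A y F hy hF hc
  exact ⟨p, hL p hp, h1⟩

theorem ClC.imp {n R : ℕ} {c c' : ∀ (A : Type) [Group A], Sys A → Prop} {L : List Ent} (h : ClC n R c L)
    (hc : ∀ (A : Type) [Group A] (F : Sys A), c' A F → c A F) : ClC n R c' L :=
  fun A _ y F hy hF h1 => h A y F hy hF (hc A F h1)

theorem Lst.mono {n : ℕ} {c : ∀ (A : Type) [Group A], Prop} {gl gl' : List ℕ} (h : Lst n c gl)
    (hL : ∀ R ∈ gl, R ∈ gl') : Lst n c gl' := fun A _ _ hA hc F hF => by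
  obtain ⟨R, hR, h1⟩ := h A hA hc F hF
  exact ⟨R, hL R hR, h1⟩

namespace G

open Cfsg Cfsg.FusionSystem Cfsg.Agent.FS.Th
open Pc (Base frc frc_eq)
open scoped commutatorElement

/-- the two modes -/
theorem clC_of {n R : ℕ} {I : List (ℕ × ℕ × ℕ × ℕ)} {L : List Ent} (hP : ClP n R L) (hN : ClN n R I L)
    (hI : LevI (n - 1) I) : ClC n R (fun _ _ _ => True) L := fun A _ y F hy hF _ => by
  by_cases h : hyp F = ⊤
  · exact hP A y F hy hF h
  · exact hN hI A y F hy hF h

theorem lev_of {n : ℕ} {gl : List ℕ} {L : List Ent} (h : Lst n (fun _ _ => True) gl)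
    (hc : ∀ R ∈ gl, ClC n R (fun _ _ _ => True) L) : Lev n L := fun A _ _ hA F hF => by
  obtain ⟨R, hR, y, hy⟩ := h A hA trivial F hF.toHy0
  exact hc R hR A y F hy hF trivial

theorem lev9 {R₁ R₂ : ℕ} {gl : List ℕ} {L : List Ent} (hC : BoxC2 R₁ R₂) (h : Lst 9 (fun A _ => ¬ Cl2 A) gl)
    (hc : ∀ R ∈ gl, ClC 9 R (fun _ _ _ => True) L) (h1 : ClC 9 R₁ (fun _ _ _ => True) L)
    (h2 : ClC 9 R₂ (fun _ _ _ => True) L) : Lev 9 L := fun A _ _ hA F hF => by
  by_cases h3 : Cl2 A
  · rcases hC A hA h3 F hF with ⟨y, hy⟩ | ⟨y, hy⟩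
    · exact h1 A y F hy hF trivial
    · exact h2 A y F hy hF trivial
  · obtain ⟨R, hR, y, hy⟩ := h A hA h3 F hF.toHy0
    exact hc R hR A y F hy hF trivial

/-! ### the list at the order `2 ^ 9` -/

section nine

variable {A : Type} [Group A]

theorem Lz.comm {k₀ : ℕ} {z : A} (h : Lz k₀ z) (g : A) : g * z = z * g := by
  obtain ⟨k, -, h1, h2⟩ := h
  have h3 : ⁅z, g⁆ ∈ (⊤ : Subgroup A).lowerCentralSeries (k + 1) :=
    Subgroup.commutator_mem_commutator h1 (Subgroup.mem_top g)
  rw [h2, Subgroup.mem_bot, commutatorElement_eq_one_iff_mul_comm] at h3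
  exact h3.symm

theorem Lz.aut {k₀ : ℕ} {z : A} (h : Lz k₀ z) (θ : MulAut A) : Lz k₀ (θ z) := by
  obtain ⟨k, h0, h1, h2⟩ := h
  refine ⟨k, h0, ?_, h2⟩
  have h3 := Subgroup.characteristic_iff_map_le.1
    (inferInstance : ((⊤ : Subgroup A).lowerCentralSeries k).Characteristic) θ
  exact h3 ⟨z, h1, rfl⟩

theorem exists_Lz [Finite A] (hA : IsPGroup 2 A) (h : ¬ Cl2 A) : ∃ z : A, z * z = 1 ∧ z ≠ 1 ∧ Lz 2 z := by
  classical
  have : Fact (Nat.Prime 2) := ⟨Nat.prime_two⟩
  have h1 : ∃ n, (⊤ : Subgroup A).lowerCentralSeries n = ⊥ :=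
    Subgroup.nilpotent_iff_lowerCentralSeries.1 hA.isNilpotent
  have h2 : (⊤ : Subgroup A).lowerCentralSeries 2 ≠ ⊥ := fun h2 => h fun a b c => by
    have h3 : ⁅⁅a, b⁆, c⁆ ∈ (⊤ : Subgroup A).lowerCentralSeries 2 :=
      Subgroup.commutator_mem_commutator
        (Subgroup.commutator_mem_commutator (Subgroup.mem_top a) (Subgroup.mem_top b)) (Subgroup.mem_top c)
    rw [h2, Subgroup.mem_bot, commutatorElement_eq_one_iff_mul_comm] at h3
    exact h3
  have h3 := Nat.find_spec h1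
  have h4 : 2 < Nat.find h1 := by
    by_contra h4
    exact h2 (le_bot_iff.1 (h3 ▸ Subgroup.lowerCentralSeries_antitone _ (not_lt.1 h4)))
  obtain ⟨k, hk⟩ : ∃ k, Nat.find h1 = k + 1 := ⟨Nat.find h1 - 1, by omega⟩
  have h5 : (⊤ : Subgroup A).lowerCentralSeries k ≠ ⊥ := Nat.find_min h1 (by omega)
  rw [hk] at h3
  have : Nontrivial ((⊤ : Subgroup A).lowerCentralSeries k) := (Subgroup.nontrivial_iff_ne_bot _).2 h5
  obtain ⟨z, z2, z1, -⟩ := Asm.exists_central_involution (hA.to_subgroup ((⊤ : Subgroup A).lowerCentralSeries k))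
  exact ⟨z, congrArg Subtype.val z2, fun h6 => z1 (Subtype.ext h6), k, by omega, z.2, h3⟩

end nine

/-- **The list of the groups of order `2 ^ 9` and class at least three.** -/
theorem lst9 {LL SS : List (List Base)} (hQ : BoxQ4) (h : Has9 LL) (hs : ∀ l ∈ LL, Swp 8 SS l) (hw : W16 SS) :
    Lst 9 (fun A _ => ¬ Cl2 A) (rels SS) := by
  intro A _ _ hA hc F hF
  have hp : IsPGroup 2 A := IsPGroup.of_card hA
  obtain ⟨z₀, a1, a2, a3⟩ := exists_Lz hp hc
  obtain ⟨z, ⟨z2, z1, hz⟩, P, -, hP⟩ := hF.exists_locZ_char hp (X := {w | w * w = 1 ∧ w ≠ 1 ∧ Lz 2 w})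
    (fun w hw => hw.2.2.comm) ⟨z₀, ⟨a1, a2, a3⟩, a2⟩ fun θ w hw =>
      ⟨by rw [← map_mul, hw.1, map_one], fun h1 => hw.2.1 (θ.injective (h1.trans (map_one θ).symm)), hw.2.2.aut θ⟩
  rcases h A hA z z2 z1 hz with ⟨c, h1⟩ | ⟨l, hl, T, hT, h1⟩
  · exact (hQ A hA hc F hF z c z2 (fun y => (hz.comm y).symm) h1).elim
  · obtain ⟨s, h2, U, hU, y, hy⟩ := hs l hl T hT A F z P hF hP h1
    obtain ⟨h3, h4⟩ := hw s h2 U hU
    obtain ⟨h5, h6⟩ := hy.isPc h3 (by omega)
    rw [h4] at h5
    exact ⟨U.rel, List.mem_map.2 ⟨U, List.mem_flatten.2 ⟨s, h2, hU⟩, rfl⟩, y, hA, h5, h6⟩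

/-- the test for `W16` -/
noncomputable def w16B (SS : List (List Base)) : Bool :=
  Gen.allL (fun s => List.rec true (fun U _ ih => Base.rec (motive := fun _ => Bool)
    (fun r w _ _ _ => Gen.band (Gen.band (Nat.beq r 0) (Nat.beq w 16)) ih) U) s) SS

theorem w16_of {SS : List (List Base)} (h : w16B SS = true) : W16 SS := fun s hs => by
  have h1 := Gen.allL_spec h s hs
  clear hs h
  induction s with
  | nil => exact fun _ hU => absurd hU List.not_mem_nil
  | cons V s ih =>
    obtain ⟨r, w, a, b, c⟩ := V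
    obtain ⟨h2, h3⟩ := Gen.band_spec h1
    obtain ⟨h4, h5⟩ := Gen.band_spec h2
    intro U hU
    rcases List.mem_cons.1 hU with rfl | hU
    · exact ⟨Nat.eq_of_beq_eq_true h4, Nat.eq_of_beq_eq_true h5⟩
    · exact ih h3 U hU

/-! ### inclusion of lists

The position of a number in the second list of lists is found through a packed vector of hash values; nothing is proved
about this search.  The counters keep the terms with big numbers apart in the caches of the kernel. -/

section sub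

variable {α : Type}

/-- the length -/
noncomputable def len (l : List α) : ℕ := List.rec 0 (fun _ _ ih => Nat.succ ih) l

/-- the total length -/
noncomputable def len2 (LL : List (List α)) : ℕ := List.rec 0 (fun l _ ih => Nat.add (len l) ih) LL

/-- the hash values modulo `p < 2 ^ 31`, 32 bits each -/
noncomputable def pkH (p : ℕ) (LL : List (List ℕ)) : ℕ :=
  List.rec 0 (fun l _ ih => Nat.add
    (List.rec 0 (fun b _ ih => frc ih fun t => Nat.add (Nat.mod (Nat.add b (Nat.mul t p)) p) (Nat.shiftLeft t 32)) l)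
    (Nat.shiftLeft ih (Nat.mul 32 (len l)))) LL

/-- the positions, 32 bits each -/
noncomputable def pkP (LL : List (List α)) : ℕ → ℕ :=
  List.rec (fun _ => 0) (fun l _ ih c => Nat.add
    (List.rec (motive := fun _ => ℕ → ℕ) (fun _ => 0)
      (fun _ _ ih o => Nat.add o (Nat.shiftLeft (frc (Nat.succ o) ih) 32)) l c)
    (Nat.shiftLeft (frc (Nat.add c 65536) ih) (Nat.mul 32 (len l)))) LL

/-- the position of the hash value `h` -/
def fnd (K P O M H T h : ℕ) : ℕ :=
  Nat.mod (Nat.land P (Nat.mul (Nat.gcd (Nat.xor (Nat.land (Nat.add (Nat.xor K (Nat.mul O h)) M) H) H) T) 8589934590))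
    4294967295

/-- all members of a list, with a counter -/
noncomputable def allC (p : α → ℕ → Bool) (s : ℕ) (L : List α) : ℕ → Bool :=
  List.rec (fun _ => true) (fun a _ ih i => Gen.band (p a i) (frc (Nat.add i s) ih)) L

theorem allC_spec {p : α → ℕ → Bool} {s : ℕ} : ∀ {L : List α} {i : ℕ}, allC p s L i = true → ∀ a ∈ L, ∃ j, p a j = true
  | [], _, _, _, h => absurd h List.not_mem_nil
  | b :: L, i, h, a, ha => by
    obtain ⟨h1, h2⟩ := Gen.band_spec h
    rcases List.mem_cons.1 ha with rfl | h3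
    · exact ⟨i, h1⟩
    · rw [frc_eq] at h2
      exact allC_spec (L := L) h2 a h3

/-- the list without its first `k` members -/
noncomputable def dr (L : List α) (k : ℕ) : List α := Nat.rec L (fun _ ih => List.rec [] (fun _ t _ => t) ih) k

/-- the first member has the property `p` -/
noncomputable def hdP (p : α → Bool) (L : List α) : Bool := List.rec false (fun a _ _ => p a) L

theorem mem_of_dr {L : List α} {a : α} : ∀ {k : ℕ}, a ∈ dr L k → a ∈ L
  | 0, h => h
  | k + 1, h => by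
    have h1 : a ∈ List.rec (motive := fun _ => List α) [] (fun _ t _ => t) (dr L k) := h
    refine mem_of_dr (k := k) ?_
    generalize dr L k = M at h1 ⊢
    cases M with
    | nil => exact h1
    | cons b M => exact List.mem_cons_of_mem b h1

theorem hdP_spec {p : α → Bool} {L : List α} {k : ℕ} (h : hdP p (dr L k) = true) : ∃ a ∈ L, p a = true := by
  have h1 : ∀ a, a ∈ dr L k → a ∈ L := fun _ => mem_of_dr
  generalize dr L k = M at h h1
  cases M with
  | nil => cases h
  | cons b M => exact ⟨b, h1 b List.mem_cons_self, h⟩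

/-- every value on `LL` occurs in `LL'` (`p` is the modulus of the hash function, `fk a k = k (f a)`) -/
noncomputable def subP (p : ℕ) (fk : α → (ℕ → Bool) → Bool) (LL : List (List α)) (LL' : List (List ℕ)) : Bool :=
  frc (pkH p LL') fun K => frc (Nat.shiftLeft (pkP LL' 0) 32) fun P =>
    frc (Nat.shiftLeft 1 (Nat.mul 32 (len2 LL'))) fun T => frc (Nat.div T 4294967295) fun O =>
      frc (Nat.mul O 2147483647) fun M => frc (Nat.shiftLeft O 31) fun H =>
        allC (fun l => allC (fun a i => frc (Nat.mul i p) fun s => fk a fun v => frc (Nat.add v s) fun w =>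
          frc (Nat.mod w p) fun h => frc (fnd K P O M H T h) fun q =>
            hdP (fun l' => hdP (fun b => Nat.beq w (Nat.add b s)) (dr l' (Nat.land q 65535)))
              (dr LL' (Nat.shiftRight q 16))) 1 l) 65536 LL 0

theorem subP_spec {p : ℕ} {fk : α → (ℕ → Bool) → Bool} {f : α → ℕ} (hf : ∀ a k, fk a k = k (f a))
    {LL : List (List α)} {LL' : List (List ℕ)} (h : subP p fk LL LL' = true) :
    ∀ R ∈ LL.flatten.map f, R ∈ LL'.flatten := by
  intro R hR
  obtain ⟨a, ha, rfl⟩ := List.mem_map.1 hR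
  obtain ⟨l, hl, ha⟩ := List.mem_flatten.1 ha
  unfold subP at h
  simp only [frc_eq, hf] at h
  obtain ⟨i, h1⟩ := allC_spec h l hl
  obtain ⟨j, h2⟩ := allC_spec h1 a ha
  obtain ⟨l', h3, h4⟩ := hdP_spec h2
  obtain ⟨b, h5, h6⟩ := hdP_spec h4
  exact List.mem_flatten.2 ⟨l', h3, Nat.add_right_cancel (Nat.eq_of_beq_eq_true h6) ▸ h5⟩

/-- the test with the standard modulus -/
noncomputable def sub (f : α → ℕ) (LL : List (List α)) (LL' : List (List ℕ)) : Bool :=
  subP 1640531527 (fun a k => frc (f a) k) LL LL'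

theorem sub_spec {f : α → ℕ} {LL : List (List α)} {LL' : List (List ℕ)} (h : sub f LL LL' = true) :
    ∀ R ∈ LL.flatten.map f, R ∈ LL'.flatten := subP_spec (fun _ _ => frc_eq _ _) h

/-- the test for lists of numbers -/
noncomputable def subN (LL LL' : List (List ℕ)) : Bool := subP 1640531527 (fun a k => k a) LL LL'

theorem subN_spec {LL LL' : List (List ℕ)} (h : subN LL LL' = true) : ∀ R ∈ LL.flatten, R ∈ LL'.flatten := by
  have h1 := subP_spec (f := id) (fun _ _ => rfl) h
  rwa [List.map_id] at h1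

/-- the test for lists of bases -/
noncomputable def subB (SS : List (List Base)) (LL' : List (List ℕ)) : Bool :=
  subP 1640531527 (fun U k => Base.rec (motive := fun _ => Bool) (fun _ _ v _ _ => k v) U) SS LL'

theorem subB_spec {SS : List (List Base)} {LL' : List (List ℕ)} (h : subB SS LL' = true) :
    ∀ R ∈ rels SS, R ∈ LL'.flatten := subP_spec (f := Base.rel) (fun _ _ => rfl) h

/-- claims on a list of lists -/
theorem forall_flatten {c : ℕ → Prop} {LL : List (List ℕ)} (h : ∀ l ∈ LL, ∀ R ∈ l, c R) : ∀ R ∈ LL.flatten, c R :=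
  fun R hR => by
    obtain ⟨l, hl, h1⟩ := List.mem_flatten.1 hR
    exact h l hl R h1

end sub

/-- **The levels `3, …, 8`** from the claims on a list of lists. -/
theorem lev_old (hSq : BoxSq) {n : ℕ} (h3 : 3 ≤ n) (h8 : n ≤ 8) {LL : List (List ℕ)} {L : List Ent}
    (hs : sub (fun T : Base => w16 n T.rel) (Sw.S n) LL = true)
    (hc : ∀ l ∈ LL, ∀ R ∈ l, ClC n R (fun _ _ _ => True) L) : Lev n L :=
  lev_of ((lst_old hSq h3 h8).mono (sub_spec hs)) (forall_flatten hc)

/-- **The level `9`** from the claims on a list of lists. -/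
theorem lev_nine {R₁ R₂ : ℕ} {BB SS : List (List Base)} {LL : List (List ℕ)} {L : List Ent} (hC : BoxC2 R₁ R₂)
    (hQ : BoxQ4) (h : Has9 BB) (hs : ∀ l ∈ BB, Swp 8 SS l) (hw : W16 SS) (hsub : subB SS LL = true)
    (hc : ∀ l ∈ LL, ∀ R ∈ l, ClC 9 R (fun _ _ _ => True) L) (h1 : ClC 9 R₁ (fun _ _ _ => True) L)
    (h2 : ClC 9 R₂ (fun _ _ _ => True) L) : Lev 9 L :=
  lev9 hC ((lst9 hQ h hs hw).mono (subB_spec hsub)) (forall_flatten hc) h1 h2

end G

end Cfsg.Agent.FS.N
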