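import Cfsg.Agent.FS.N.G.Defs
import Cfsg.Agent.FS.Th.Elem

/-!
# S5288, the box `Q4`: the group (helper21, project FS)
-/

set_option autoImplicit false

namespace Cfsg.Agent.FS.N.G.Qf

open Cfsg.Agent.FS.Th

variable {A : Type} [Group A] {z c v y : A}

/-- the structure of the group -/
structure Sv (z c v y : A) : Prop where
  z2 : z * z = 1
  zc : ∀ x, z * x = x * z
  cc : ∀ x, c * x = x * c ∨ c * x = x * c * z
  sq : ∀ g : A, g * g = 1 ∨ g * g = z ∨ g * g = c ∨ g * g = c * z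
  ne : z ≠ 1
  c2 : c * c = z
  hv : c * v ≠ v * c
  hy : c * y = y * c
  cm : ∀ a b : A, a * b * a⁻¹ * b⁻¹ = 1 ∨ a * b * a⁻¹ * b⁻¹ = z ∨ a * b * a⁻¹ * b⁻¹ = c ∨ a * b * a⁻¹ * b⁻¹ = c * z
  eN : ∀ e, c * e = e * c → (e * e = 1 ∨ e * e = z) → ∀ x, x * e * x⁻¹ = e ∨ x * e * x⁻¹ = e * z
  my : ∀ m, c * m = m * c → (m * m = 1 ∨ m * m = z) ∨
    (c * (y⁻¹ * m) = y⁻¹ * m * c ∧ (y⁻¹ * m * (y⁻¹ * m) = 1 ∨ y⁻¹ * m * (y⁻¹ * m) = z))

theorem exists_pi (z2 : z * z = 1) (zc : ∀ x, z * x = x * z) :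
    ∃ (T : Type) (_ : Group T) (π : A →* T), Function.Surjective π ∧ ∀ g, π g = 1 ↔ g = 1 ∨ g = z := by
  let Z : Subgroup A :=
    { carrier := {g | g = 1 ∨ g = z}
      one_mem' := Or.inl rfl
      mul_mem' := by rintro _ _ (rfl | rfl) (rfl | rfl) <;> simp [z2]
      inv_mem' := by rintro _ (rfl | rfl) <;> simp [inv_eq_of_mul_eq_one_right z2] }
  have : Z.Normal := ⟨by
    rintro _ (rfl | rfl) g
    · exact Or.inl (by simp)
    · exact Or.inr (by rw [← zc, mul_inv_cancel_right])⟩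
  exact ⟨A ⧸ Z, inferInstance, QuotientGroup.mk' Z, QuotientGroup.mk'_surjective Z, fun g => QuotientGroup.eq_one_iff g⟩

theorem out_mul (zc : ∀ x, z * x = x * z) (z2 : z * z = 1) (cc : ∀ x, c * x = x * c ∨ c * x = x * c * z) {a b : A}
    (ha : c * a ≠ a * c) (hb : c * b ≠ b * c) : c * (a * b) = a * b * c := by
  rw [← mul_assoc, (cc a).resolve_left ha, mul_assoc, zc, mul_assoc, ← mul_assoc c, (cc b).resolve_left hb, mul_assoc,
    z2, mul_one, mul_assoc]

theorem out_inv {a : A} (ha : c * a ≠ a * c) : c * a⁻¹ ≠ a⁻¹ * c := fun h => ha (Commute.inv_right_iff.1 h)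

theorem out_in {a b : A} (ha : c * a ≠ a * c) (hb : c * b = b * c) : c * (a * b) ≠ a * b * c := fun h => ha (by
  have h1 := (show Commute c (a * b) from h).mul_right (show Commute c b from hb).inv_right
  rwa [mul_inv_cancel_right] at h1)

theorem exists_sv (h2 : ¬ Cl2 A) (z2 : z * z = 1) (zc : ∀ x, z * x = x * z) (h : Q4 z c) : ∃ v y, Sv z c v y := by
  obtain ⟨cc, sq⟩ := h
  obtain ⟨T, _, π, hs, hπ⟩ := exists_pi z2 zc
  have p1 : ∀ {a b}, π a = π b → a = b ∨ a = b * z := fun {a b} e =>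
    ((hπ (b⁻¹ * a)).1 (by rw [map_mul, map_inv, e, inv_mul_cancel])).imp (fun e => (inv_mul_eq_one.1 e).symm)
      inv_mul_eq_iff_eq_mul.1
  have pz : π z = 1 := (hπ z).2 (Or.inr rfl)
  have d2 : π c * π c = 1 := by
    rw [← map_mul, hπ]
    rcases sq c with e | e | e | e
    · exact Or.inl e
    · exact Or.inr e
    · exact Or.inl (by rw [mul_eq_left.1 e, mul_one])
    · exact Or.inl (by rw [mul_left_cancel e, z2])
  have dc : ∀ t, π c * t = t * π c := fun t => by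
    obtain ⟨t, rfl⟩ := hs t
    rw [← map_mul, ← map_mul]
    exact (cc t).elim (congrArg π) fun e => by rw [e, map_mul, pz, mul_one]
  have ds : ∀ t : T, t * t = 1 ∨ t * t = π c := fun t => by
    obtain ⟨t, rfl⟩ := hs t
    rw [← map_mul]
    rcases sq t with e | e | e | e <;> rw [e]
    · exact Or.inl π.map_one
    · exact Or.inl pz
    · exact Or.inr rfl
    · exact Or.inr (by rw [map_mul, pz, mul_one])
  have cm : ∀ a b : A, a * b * a⁻¹ * b⁻¹ = 1 ∨ a * b * a⁻¹ * b⁻¹ = z ∨ a * b * a⁻¹ * b⁻¹ = c ∨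
      a * b * a⁻¹ * b⁻¹ = c * z := fun a b => by
    rw [← or_assoc]
    refine (comm_of_sq d2 dc ds (π a) (π b)).imp (fun e => (hπ _).1 ?_) fun e => p1 ?_ <;>
      rw [map_mul, map_mul, map_mul, map_inv, map_inv, e]
    · group
    · rw [← dc]
      group
  have hab : ∃ a b, π a * π b ≠ π b * π a ∧ ∃ v, c * v ≠ v * c := by
    simp only [Cl2, not_forall] at h2
    obtain ⟨a, b, x, h2⟩ := h2
    refine ⟨a, b, fun e => h2 ?_, x, fun e => h2 ?_⟩
    · rcases (hπ (a * b * a⁻¹ * b⁻¹)).1 (by rw [map_mul, map_mul, map_mul, map_inv, map_inv, e]; group) with e | e <;> rw [e]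
      · rw [one_mul, mul_one]
      · exact zc x
    · rcases cm a b with e1 | e1 | e1 | e1 <;> rw [e1]
      · rw [one_mul, mul_one]
      · exact zc x
      · exact e
      · rw [mul_assoc, zc, ← mul_assoc, e, mul_assoc]
  obtain ⟨a, b, hab, v, hv⟩ := hab
  have ne : z ≠ 1 := fun e => hv ((cc v).elim id fun e1 => by rwa [e, mul_one] at e1)
  have o1 : ∀ x, c * x ≠ x * c → π x * π x = 1 := fun x hx => by
    rw [← map_mul, hπ]
    rcases sq x with e | e | e | e
    · exact Or.inl e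
    · exact Or.inr e
    · exact absurd (by rw [← e, mul_assoc]) hx
    · refine absurd (mul_right_cancel (b := z) ?_) hx
      rw [mul_assoc, ← zc, ← mul_assoc, mul_assoc x, ← e, mul_assoc]
  have o2 : ∀ x m, c * x ≠ x * c → c * m = m * c → π x * π m * (π x)⁻¹ = (π m)⁻¹ := fun x m hx hm => by
    have h1 := o1 _ (out_in hx hm)
    rw [inv_eq_of_mul_eq_one_right (o1 x hx), eq_inv_iff_mul_eq_one, mul_assoc, ← map_mul, h1]
  have o3 : ∀ m m', c * m = m * c → c * m' = m' * c → π m * π m' = π m' * π m := fun m m' hm hm' => by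
    have h1 := o2 v _ hv ((show Commute c m from hm).mul_right hm')
    rw [map_mul, ← conj_mul, o2 v m hv hm, o2 v m' hv hm', ← mul_inv_rev, inv_inj] at h1
    exact h1.symm
  have hy : ∃ y, c * y = y * c ∧ π y * π y ≠ 1 := by
    by_contra! h1
    have h3 : ∀ t : T, t * t = 1 := fun t => by
      obtain ⟨t, rfl⟩ := hs t
      exact (em _).elim (h1 t) (o1 t)
    exact hab ((comm_of_sq (mul_one 1) (fun y => (one_mul y).trans (mul_one y).symm) (fun g => Or.inl (h3 g)) _ _).elim id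
      fun e => by rwa [mul_one] at e)
  obtain ⟨y, hy, y2⟩ := hy
  have c2 : c * c = z := by
    have h1 : v * (y * y) * v⁻¹ = y * y * z := by
      have h3 : v * c * v⁻¹ = c * z := by
        rw [mul_inv_eq_iff_eq_mul, mul_assoc, zc, ← mul_assoc, (cc v).resolve_left hv, mul_assoc, z2, mul_one]
      rcases p1 (((ds (π y)).resolve_left y2).symm.trans (map_mul π y y).symm).symm with e | e <;> rw [e]
      · exact h3
      · rw [← conj_mul, h3, ← zc v, mul_inv_cancel_right]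
    have h3 : ∀ k, v * y * v⁻¹ * y⁻¹ = k → k * y = y * k → k * k = z := fun k e hk => by
      rw [← conj_mul, mul_inv_eq_iff_eq_mul.1 e, mul_assoc, ← mul_assoc y, ← hk, mul_assoc, ← mul_assoc, ← zc] at h1
      exact mul_right_cancel h1
    rcases cm v y with e | e | e | e
    · exact absurd ((h3 _ e (by rw [one_mul, mul_one])).symm.trans (mul_one _)) ne
    · exact absurd ((h3 _ e (zc y)).symm.trans z2) ne
    · exact h3 _ e hy
    · have h4 := h3 _ e (by rw [mul_assoc, zc, ← mul_assoc, hy, mul_assoc])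
      rwa [mul_assoc, ← mul_assoc z, zc, mul_assoc, z2, mul_one] at h4
  refine ⟨v, y, z2, zc, cc, sq, ne, c2, hv, hy, cm, fun e he h1 x => p1 ?_, fun m hm => ?_⟩
  · rw [map_mul, map_mul, map_inv]
    by_cases hx : c * x = x * c
    · rw [o3 x e hx he, mul_inv_cancel_right]
    · rw [o2 x e hx he, inv_eq_of_mul_eq_one_right ((map_mul π e e).symm.trans ((hπ _).2 h1))]
  · refine (ds (π m)).imp (fun e => (hπ _).1 ((map_mul π m m).trans e)) fun e =>
      ⟨(show Commute c y from hy).inv_right.mul_right hm, (hπ _).1 ?_⟩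
    have h1 := o3 m y⁻¹ hm (show Commute c y from hy).inv_right
    rw [map_mul, map_mul, mul_assoc, ← mul_assoc (π m), h1, mul_assoc, e, ← (ds (π y)).resolve_left y2, map_inv]
    group

/-- elementary abelian, self-centralising, of index two in the normaliser -/
structure Bad (P : Subgroup A) : Prop where
  sq : ∀ x ∈ P, x * x = 1
  cen : ∀ g, (∀ x ∈ P, g * x = x * g) → g ∈ P
  two : ∀ s t, (∀ x ∈ P, s * x * s⁻¹ ∈ P) → (∀ x ∈ P, t * x * t⁻¹ ∈ P) → s ∉ P → t ∉ P → t⁻¹ * s ∈ P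

theorem Bad.comap {P : Subgroup A} (h : Bad P) (θ : MulAut A) : Bad (P.comap θ.toMonoidHom) := by
  have h1 : ∀ s, (∀ x ∈ P.comap θ.toMonoidHom, s * x * s⁻¹ ∈ P.comap θ.toMonoidHom) → ∀ x ∈ P, θ s * x * (θ s)⁻¹ ∈ P :=
    fun s hs x hx => by
      obtain ⟨x, rfl⟩ := θ.surjective x
      rw [← map_inv, ← map_mul, ← map_mul]
      exact hs x hx
  refine ⟨fun x hx => θ.injective (by rw [map_mul, map_one]; exact h.sq _ hx), fun g hg => h.cen _ fun x hx => ?_,
    fun s t hs ht h2 h3 => ?_⟩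
  · obtain ⟨x, rfl⟩ := θ.surjective x
    exact (map_mul θ g x).symm.trans ((congrArg θ (hg x hx)).trans (map_mul θ x g))
  · show θ (t⁻¹ * s) ∈ P
    rw [map_mul, map_inv]
    exact h.two _ _ (h1 s hs) (h1 t ht) h2 h3

theorem Bad.comm {P : Subgroup A} (h : Bad P) {a b : A} (ha : a ∈ P) (hb : b ∈ P) : a * b = b * a := by
  have h1 := h.sq _ (P.mul_mem ha hb)
  rwa [← eq_inv_iff_mul_eq_one, mul_inv_rev, inv_eq_of_mul_eq_one_right (h.sq a ha),
    inv_eq_of_mul_eq_one_right (h.sq b hb)] at h1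

theorem card_le_list [Finite A] {H : Subgroup A} (l : List A) {K : Set A} (h : ∀ x ∈ K, ∃ k ∈ l, k⁻¹ * x ∈ H) :
    K.ncard ≤ l.length * Nat.card H := by
  induction l generalizing K with
  | nil =>
    rw [Set.eq_empty_of_forall_notMem (s := K) fun x hx => by simpa using h x hx, Set.ncard_empty]
    exact Nat.zero_le _
  | cons t l ih =>
    have h1 : K ⊆ {x | ∃ k ∈ l, k⁻¹ * x ∈ H} ∪ (fun x => t * x) '' H := fun x hx => by
      obtain ⟨k, hk, e⟩ := h x hx
      rcases List.mem_cons.1 hk with rfl | hk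
      · exact Or.inr ⟨_, e, mul_inv_cancel_left k x⟩
      · exact Or.inl ⟨k, hk, e⟩
    rw [List.length_cons, add_one_mul]
    exact (Set.ncard_le_ncard h1).trans ((Set.ncard_union_le _ _).trans
      (Nat.add_le_add (ih fun _ hx => hx) (Set.ncard_image_le (s := (H : Set A)))))

namespace Sv

variable (S : Sv z c v y) {P P' : Subgroup A}
include S

theorem conj_c (x : A) : c * x * c⁻¹ = x ∨ c * x * c⁻¹ = x * z :=
  (S.cc x).imp mul_inv_eq_iff_eq_mul.2 fun e => by rw [e, ← S.zc, ← mul_assoc, mul_inv_cancel_right, S.zc]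

theorem comm_k {w k : A} (h1 : Commute w c) (h2 : Commute w y) (hk : k ∈ [1, c, y, y * c]) : Commute w k := by
  simp only [List.mem_cons, List.not_mem_nil, or_false] at hk
  rcases hk with rfl | rfl | rfl | rfl
  exacts [Commute.one_right _, h1, h2, h2.mul_right h1]

variable (h : Bad P)
include h

theorem z_mem : z ∈ P := h.cen z fun x _ => S.zc x

theorem c_not : c ∉ P := fun e => S.ne (S.c2.symm.trans (h.sq c e))

theorem c_nor : ∀ x ∈ P, c * x * c⁻¹ ∈ P := fun x hx =>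
  (S.conj_c x).elim (fun e => e.symm ▸ hx) fun e => e.symm ▸ P.mul_mem hx (S.z_mem h)

theorem e_mem {e : A} (he : c * e = e * c) (h1 : e * e = 1 ∨ e * e = z) : e ∈ P ∨ c⁻¹ * e ∈ P := by
  refine (em _).imp_right fun h2 => h.two e c (fun x hx => ?_) (S.c_nor h) h2 (S.c_not h)
  rcases S.eN e he h1 x⁻¹ with h3 | h3
  · rwa [show e * x * e⁻¹ = x * (x⁻¹ * e * x⁻¹⁻¹) * e⁻¹ by group, h3, mul_inv_cancel_right]
  · rw [show e * x * e⁻¹ = x * (x⁻¹ * e * x⁻¹⁻¹) * e⁻¹ by group, h3, ← S.zc e, ← mul_assoc, mul_inv_cancel_right]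
    exact P.mul_mem hx (S.z_mem h)

theorem e0_mem {e : A} (he : c * e = e * c) (h1 : e * e = 1) : e ∈ P := (S.e_mem h he (Or.inl h1)).resolve_right fun h2 => by
  have h3 := h.sq _ h2
  rw [mul_assoc, ← mul_assoc e, ← (show Commute c e from he).inv_left.eq, mul_assoc, h1, mul_one, ← mul_inv_rev, S.c2,
    inv_eq_one] at h3
  exact S.ne h3

theorem exists_out : ∃ x ∈ P, c * x ≠ x * c := by
  by_contra! h1
  exact S.c_not h (h.cen c h1)

theorem le_of_mem (h' : Bad P') {t : A} (ht : c * t ≠ t * c) (h1 : t ∈ P) (h2 : t ∈ P') : P ≤ P' := fun x hx => by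
  by_cases e : c * x = x * c
  · exact S.e0_mem h' e (h.sq x hx)
  · exact (P'.mul_mem_cancel_left h2).1 (S.e0_mem h' (out_mul S.zc S.z2 S.cc ht e) (h.sq _ (P.mul_mem h1 hx)))

theorem dec {m : A} (hm : c * m = m * c) : ∃ k ∈ [1, c, y, y * c], k⁻¹ * m ∈ P := by
  rcases S.my m hm with e | ⟨e, e'⟩
  · rcases S.e_mem h hm e with e1 | e1
    · exact ⟨1, by simp, by simpa using e1⟩
    · exact ⟨c, by simp, e1⟩
  · rcases S.e_mem h e e' with e1 | e1
    · exact ⟨y, by simp, e1⟩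
    · exact ⟨y * c, by simp, by rwa [mul_inv_rev, mul_assoc]⟩

theorem rep : ∃ k ∈ [1, c, y, y * c], c * (v * k) ≠ v * k * c ∧ v * k ∈ P := by
  obtain ⟨x, hx, h1⟩ := S.exists_out h
  have h2 := out_mul S.zc S.z2 S.cc (out_inv S.hv) h1
  obtain ⟨k, hk, h3⟩ := S.dec h h2
  have h4 : v * k = x * (k⁻¹ * (v⁻¹ * x))⁻¹ := by group
  exact ⟨k, hk, out_in S.hv (S.comm_k (Commute.refl c) S.hy hk), h4 ▸ P.mul_mem hx (P.inv_mem h3)⟩

theorem exists_V [Finite A] (hc : Nat.card A = 2 ^ 9) :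
    ∃ V : Subgroup A, 2 ^ 4 < Nat.card V ∧ ∀ w ∈ V, w * w = 1 ∧ ∀ x, x * w = w * x := by
  have m1 : ∀ {a b : A}, a ∈ Subgroup.centralizer {b} ↔ b * a = a * b := Subgroup.mem_centralizer_singleton_iff.trans eq_comm
  obtain ⟨t, ht, h1⟩ := S.exists_out h
  refine ⟨P ⊓ Subgroup.centralizer {c} ⊓ Subgroup.centralizer {y}, ?_, fun w hw => ⟨h.sq w hw.1.1, fun x => ?_⟩⟩
  · have h2 : (Set.univ : Set A).ncard ≤ 2 * Nat.card (Subgroup.centralizer {c}) := card_le_list [1, t] fun x _ =>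
      (em (c * x = x * c)).elim (fun e => ⟨1, by simp, by simpa using m1.2 e⟩) fun e =>
        ⟨t, by simp, m1.2 (out_mul S.zc S.z2 S.cc (out_inv h1) e)⟩
    have h3 : (Subgroup.centralizer {c} : Set A).ncard ≤ 4 * Nat.card ↥(P ⊓ Subgroup.centralizer {c}) :=
      card_le_list [1, c, y, y * c] fun x hx => by
        obtain ⟨k, hk, e⟩ := S.dec h (m1.1 hx)
        exact ⟨k, hk, e, m1.2 ((S.comm_k (Commute.refl c) S.hy hk).inv_right.mul_right (m1.1 hx))⟩
    have h4 : ((P ⊓ Subgroup.centralizer {c} : Subgroup A) : Set A).ncard ≤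
        2 * Nat.card ↥(P ⊓ Subgroup.centralizer {c} ⊓ Subgroup.centralizer {y}) := by
      by_cases e : ∃ a ∈ P ⊓ Subgroup.centralizer {c}, y * a ≠ a * y
      · obtain ⟨a, ha, e⟩ := e
        have h5 : ∀ b ∈ P ⊓ Subgroup.centralizer {c}, y * b ≠ b * y → y * b * y⁻¹ = b * z := fun b hb e =>
          (S.eN b (m1.1 hb.2) (Or.inl (h.sq b hb.1)) y).resolve_left fun e1 => e (mul_inv_eq_iff_eq_mul.1 e1)
        refine card_le_list [1, a] fun x hx => (em (y * x = x * y)).elim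
          (fun e => ⟨1, by simp, by rw [inv_one, one_mul]; exact ⟨hx, m1.2 e⟩⟩) fun e1 =>
          ⟨a, by simp, Subgroup.mul_mem _ (Subgroup.inv_mem _ ha) hx, m1.2 (mul_inv_eq_iff_eq_mul.1 ?_)⟩
        rw [← conj_mul, ← conj_inv, h5 a ha e, h5 x hx e1, ← S.zc a, ← S.zc x, mul_inv_rev, mul_assoc, inv_mul_cancel_left]
      · push Not at e
        exact card_le_list [1, 1] fun x hx => ⟨1, by simp, by rw [inv_one, one_mul]; exact ⟨hx, m1.2 (e x hx)⟩⟩
    rw [Set.ncard_univ, hc] at h2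
    have h5 : (Subgroup.centralizer {c} : Set A).ncard = Nat.card (Subgroup.centralizer {c}) := rfl
    have h6 : ((P ⊓ Subgroup.centralizer {c} : Subgroup A) : Set A).ncard = Nat.card ↥(P ⊓ Subgroup.centralizer {c}) := rfl
    omega
  · have h2 : ∀ m, c * m = m * c → Commute w m := fun m hm => by
      obtain ⟨k, hk, e⟩ := S.dec h hm
      have h3 := (S.comm_k (Eq.symm (m1.1 hw.1.2)) (Eq.symm (m1.1 hw.2)) hk).mul_right (h.comm hw.1.1 e)
      rwa [mul_inv_cancel_left] at h3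
    by_cases e : c * x = x * c
    · exact (h2 x e).symm
    · have h3 := (show Commute w t from h.comm hw.1.1 ht).mul_right (h2 _ (out_mul S.zc S.z2 S.cc (out_inv h1) e))
      rw [mul_inv_cancel_left] at h3
      exact h3.symm

end Sv

end Cfsg.Agent.FS.N.G.Qf
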