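import Cfsg.Agent.FS.N.G.Chk

/-!
# Segments of a list of bases of order `2 ^ 8` (helper49, project FS)
-/

set_option autoImplicit false

namespace Cfsg.Agent.FS.N.G

open Gen
open Pc (Base)

/-- the bases number `lo + k - 1, …, lo` pass the check -/
noncomputable def segK (L : List Base) (lo k : ℕ) (cs : List (Ce × Fi)) : Bool :=
  allN (fun i b => look (fun T => base9OK T b) L (Nat.add lo i)) k cs

def Up (L : List Base) (k : ℕ) : Prop := ∀ i, ∀ h : i < L.length, i < k → ∃ ce, base9OK L[i] ce = true

/-- all members pass the check -/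
def KK (L : List Base) : Prop := ∀ T ∈ L, ∃ ce, base9OK T ce = true

theorem Up.zero (L : List Base) : Up L 0 := fun _ _ h => absurd h (Nat.not_lt_zero _)

theorem Up.step {L : List Base} {lo k : ℕ} {cs : List (Ce × Fi)} (h2 : segK L lo k cs = true) (h : Up L lo) :
    Up L (Nat.add lo k) := fun i hi h3 => by
  by_cases h4 : i < lo
  · exact h i hi h4
  · have h5 : i < lo + k := h3
    obtain ⟨b, hb⟩ := allN_spec h2 (i - lo) (by omega)
    rw [show Nat.add lo (i - lo) = i from by show lo + (i - lo) = i; omega, look_get hi] at hb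
    exact ⟨b, hb⟩

theorem Up.all {L : List Base} {k : ℕ} (h : Up L k) (hk : Nat.ble L.length k = true) : KK L := fun T hT => by
  obtain ⟨i, hi, rfl⟩ := List.getElem_of_mem hT
  exact h i hi (hi.trans_le (Nat.le_of_ble_eq_true hk))

theorem fa_cons {α : Type} {P : α → Prop} {a : α} {L : List α} (h : P a) (t : ∀ l ∈ L, P l) : ∀ l ∈ a :: L, P l :=
  List.forall_mem_cons.2 ⟨h, t⟩

end Cfsg.Agent.FS.N.G
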