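import Cfsg.Agent.FS.N.G.Defs

/-!
# S5288: data of level `0` under `Hy0` (helper97, project FS; the proofs are those of `FS/Th/Shape`)
-/

set_option autoImplicit false

namespace Cfsg.Agent.FS.N

open Cfsg Cfsg.FusionSystem Cfsg.Agent.H802 Cfsg.Agent.H752 Cfsg.Agent.FS.Th

variable {G : Type} [Group G]

/-- **TH2 a**, with the data: `A ≤ Aut_F(P)`.  `X` is any invariant set of central elements, not all trivial. -/
theorem Hy0.exists_locZ' [Finite G] (hG : IsPGroup 2 G) {F : FusionSystem (⊤ : Subgroup G)} (h : Hy0 F) {X : Set G}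
    (hX : ∀ z ∈ X, ∀ g, g * z = z * g) (hne : ∃ z ∈ X, z ≠ 1) (hinv : ∀ f, Mp F ⊤ f → ∀ w ∈ X, f w ∈ X) :
    ∃ z ∈ X, ∃ (P : Subgroup G) (A D : Subgroup (MulAut P)), F.IsEssential 2 P ∧ A ≤ F.autGroup P ∧ Loc P A D ∧
      ∀ α ∈ A, fn α z = z → α ∈ D := by
  have : Fact (Nat.Prime 2) := ⟨Nat.prime_two⟩
  have hS : IsPGroup 2 (⊤ : Subgroup G) := hG.to_subgroup ⊤
  have hWc : ∀ w ∈ Subgroup.closure X, ∀ g, g * w = w * g := fun w hw g =>
    Subgroup.mem_center_iff.1 ((Subgroup.closure_le (Subgroup.center G)).2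
      (fun z hz => Subgroup.mem_center_iff.2 (hX z hz)) hw) g
  have hW : ∀ {P : Subgroup G} (α : MulAut P), Subgroup.closure X ≤ P → (∀ z ∈ X, fn α z ∈ X) →
      ∀ w ∈ Subgroup.closure X, fn α w ∈ Subgroup.closure X := fun α hP hα w hw => by
    induction hw using Subgroup.closure_induction with
    | mem x hx => exact Subgroup.subset_closure (hα x hx)
    | one => rw [fn_map_one]; exact Subgroup.one_mem _
    | mul x y hx hy h1 h2 => rw [fn_map_mul α (hP hx) (hP hy)]; exact Subgroup.mul_mem _ h1 h2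
    | inv x hx h1 => rw [fn_map_inv α (hP hx)]; exact Subgroup.inv_mem _ h1
  obtain ⟨z, hz, hz1⟩ := hne
  rcases normal_failure hS h.sat (W := Subgroup.closure X) le_top
    (fun s _ w hw => by rw [hWc w hw s, mul_inv_cancel_right]; exact hw)
    (not_isNormal_of_core h.core fun h1 => hz1 (Subgroup.mem_bot.1 (h1 ▸ Subgroup.subset_closure hz))) with
    ⟨α, hα, r, k, -, -, -, ⟨w, hw, h1⟩, -⟩ | ⟨-, P, H, hf⟩
  · exact (h1 (hW α le_top (hinv _ (mp_fn le_rfl hα)) w hw)).elim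
  · obtain ⟨h1, h2, -, -⟩ := moved_centre hS h.sat (W := Subgroup.closure X) le_top (fun s _ w hw => hWc w hw s) hf
    obtain ⟨w, hw, A', h3, h4, h5⟩ := (hf.loc hG h.sat).stab hX fun α hα h3 =>
      (h2 α).2 ⟨hα, hW α h1 fun z hz => by rw [h3 z hz]; exact hz⟩
    exact ⟨w, hw, P, A', H, hf.ess, h3, h4, h5⟩

/-- **TH2 a.** -/
theorem Hy0.exists_locZ [Finite G] (hG : IsPGroup 2 G) {F : FusionSystem (⊤ : Subgroup G)} (h : Hy0 F) {X : Set G}
    (hX : ∀ z ∈ X, ∀ g, g * z = z * g) (hne : ∃ z ∈ X, z ≠ 1) (hinv : ∀ f, Mp F ⊤ f → ∀ w ∈ X, f w ∈ X) :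
    ∃ z ∈ X, ∃ P : Subgroup G, F.IsEssential 2 P ∧ LocZ z P ⊥ := by
  obtain ⟨z, hz, P, A, D, h1, -, h2, h3⟩ := h.exists_locZ' hG hX hne hinv
  exact ⟨z, hz, P, h1, h2.locZ_bot h3⟩

/-- **TH2 a** for a set invariant under `Aut(G)`. -/
theorem Hy0.exists_locZ_char [Finite G] (hG : IsPGroup 2 G) {F : FusionSystem (⊤ : Subgroup G)} (h : Hy0 F)
    {X : Set G} (hX : ∀ z ∈ X, ∀ g, g * z = z * g) (hne : ∃ z ∈ X, z ≠ 1)
    (hinv : ∀ θ : MulAut G, ∀ w ∈ X, θ w ∈ X) : ∃ z ∈ X, ∃ P : Subgroup G, F.IsEssential 2 P ∧ LocZ z P ⊥ :=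
  h.exists_locZ hG hX hne fun f hf w hw => by
    obtain ⟨θ, hθ⟩ := Mp.exists_top hf
    rw [← hθ]
    exact hinv θ w hw

/-- Some central involution has a datum of level `0`. -/
theorem Hy0.exists_locZ_inv [Finite G] [Nontrivial G] (hG : IsPGroup 2 G) {F : FusionSystem (⊤ : Subgroup G)}
    (h : Hy0 F) : ∃ z : G, z * z = 1 ∧ z ≠ 1 ∧ (∀ y, z * y = y * z) ∧ ∃ P, F.IsEssential 2 P ∧ LocZ z P ⊥ := by
  obtain ⟨z, hz, hz1⟩ : ∃ z ∈ omZ G, z ≠ 1 := by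
    by_contra h1
    push Not at h1
    exact omZ_ne_bot hG ((Subgroup.eq_bot_iff_forall _).2 h1)
  obtain ⟨w, hw, h1⟩ := h.exists_locZ_char hG (X := {w | w * w = 1 ∧ w ≠ 1 ∧ ∀ y, w * y = y * w})
    (fun w hw g => (hw.2.2 g).symm) ⟨z, ⟨hz.1, hz1, fun y => (hz.2 y).symm⟩, hz1⟩ fun θ w hw =>
      ⟨by rw [← map_mul, hw.1, map_one], fun h1 => hw.2.1 (θ.injective (h1.trans (map_one θ).symm)), fun y => by
        rw [← θ.apply_symm_apply y, ← map_mul, hw.2.2, map_mul]⟩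
  exact ⟨w, hw.1, hw.2.1, hw.2.2, h1⟩
end Cfsg.Agent.FS.N
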